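import Groth.Prelude.Def_StabCat
import Mathlib.Analysis.Polynomial.Basic
import Mathlib.Algebra.Polynomial.Taylor
import Mathlib.Algebra.Polynomial.HasseDeriv

/-!
# Eventual signs and cross-multiplied comparison of polynomials

Elementary calculus for the comparisons `StabCat.RedLE`, `RedLT`, `RedEq`.
-/

set_option autoImplicit false

open Polynomial Filter

namespace Groth.Agent.HP96

noncomputable section

/-- Eventually nonnegative at natural numbers. -/
def EvNonneg (P : ℚ[X]) : Prop := ∃ N : ℕ, ∀ m : ℕ, N ≤ m → 0 ≤ P.eval (m : ℚ)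

/-- Eventually positive at natural numbers. -/
def EvPos (P : ℚ[X]) : Prop := ∃ N : ℕ, ∀ m : ℕ, N ≤ m → 0 < P.eval (m : ℚ)

theorem evPos_of_leadingCoeff_pos {P : ℚ[X]} (h : 0 < P.leadingCoeff) : EvPos P := by
  by_cases hd : 0 < P.degree
  · have ht := ((P.tendsto_atTop_of_leadingCoeff_nonneg hd h.le).comp
      (tendsto_natCast_atTop_atTop (R := ℚ))).eventually_gt_atTop 0
    exact eventually_atTop.1 ht
  · have hC := eq_C_of_degree_le_zero (not_lt.1 hd)
    refine ⟨0, fun m _ => ?_⟩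
    rw [hC, eval_C]
    rw [hC, leadingCoeff_C] at h
    exact h

theorem evPos_iff {P : ℚ[X]} : EvPos P ↔ 0 < P.leadingCoeff := by
  refine ⟨fun ⟨N, hN⟩ => ?_, evPos_of_leadingCoeff_pos⟩
  rcases lt_trichotomy P.leadingCoeff 0 with h | h | h
  · obtain ⟨M, hM⟩ := evPos_of_leadingCoeff_pos (P := -P) (by simpa using h)
    have h1 := hN _ (le_max_left N M)
    have h2 := hM _ (le_max_right N M)
    simp only [eval_neg] at h2
    linarith
  · have h1 := hN N le_rfl
    simp [leadingCoeff_eq_zero.1 h] at h1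
  · exact h

theorem evNonneg_iff {P : ℚ[X]} : EvNonneg P ↔ 0 ≤ P.leadingCoeff := by
  refine ⟨fun ⟨N, hN⟩ => ?_, fun h => ?_⟩
  · by_contra h
    obtain ⟨M, hM⟩ := evPos_of_leadingCoeff_pos (P := -P) (by simpa using not_le.1 h)
    have h1 := hN _ (le_max_left N M)
    have h2 := hM _ (le_max_right N M)
    simp only [eval_neg] at h2
    linarith
  · rcases h.lt_or_eq with h | h
    · exact (evPos_of_leadingCoeff_pos h).imp fun N hN m hm => (hN m hm).le
    · exact ⟨0, fun m _ => by simp [leadingCoeff_eq_zero.1 h.symm]⟩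

theorem EvPos.evNonneg {P : ℚ[X]} (h : EvPos P) : EvNonneg P :=
  h.imp fun _ hN m hm => (hN m hm).le

theorem EvPos.ne_zero {P : ℚ[X]} (h : EvPos P) : P ≠ 0 :=
  fun h0 => (evPos_iff.1 h).ne' (by simp [h0])

theorem evNonneg_zero : EvNonneg 0 := ⟨0, fun _ _ => by simp⟩

theorem EvNonneg.add {P Q : ℚ[X]} (hP : EvNonneg P) (hQ : EvNonneg Q) : EvNonneg (P + Q) := by
  obtain ⟨N, hN⟩ := hP; obtain ⟨M, hM⟩ := hQ
  exact ⟨max N M, fun m hm => by
    rw [eval_add]; exact add_nonneg (hN m (le_of_max_le_left hm)) (hM m (le_of_max_le_right hm))⟩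

theorem EvPos.add_evNonneg {P Q : ℚ[X]} (hP : EvPos P) (hQ : EvNonneg Q) : EvPos (P + Q) := by
  obtain ⟨N, hN⟩ := hP; obtain ⟨M, hM⟩ := hQ
  exact ⟨max N M, fun m hm => by
    rw [eval_add]
    exact add_pos_of_pos_of_nonneg (hN m (le_of_max_le_left hm)) (hM m (le_of_max_le_right hm))⟩

theorem evNonneg_smul_iff {c : ℚ} (hc : 0 < c) {P : ℚ[X]} : EvNonneg (c • P) ↔ EvNonneg P := by
  rw [evNonneg_iff, evNonneg_iff, smul_eq_C_mul, leadingCoeff_mul, leadingCoeff_C,
    mul_nonneg_iff_of_pos_left hc]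

theorem evPos_smul_iff {c : ℚ} (hc : 0 < c) {P : ℚ[X]} : EvPos (c • P) ↔ EvPos P := by
  rw [evPos_iff, evPos_iff, smul_eq_C_mul, leadingCoeff_mul, leadingCoeff_C,
    mul_pos_iff_of_pos_left hc]

theorem EvNonneg.smul {c : ℚ} (hc : 0 ≤ c) {P : ℚ[X]} (hP : EvNonneg P) : EvNonneg (c • P) :=
  hP.imp fun _ hN m hm => by rw [eval_smul, smul_eq_mul]; exact mul_nonneg hc (hN m hm)

theorem EvNonneg.evPos_of_ne {P : ℚ[X]} (h : EvNonneg P) (h0 : P ≠ 0) : EvPos P :=
  evPos_iff.2 ((evNonneg_iff.1 h).lt_of_ne fun e => h0 (leadingCoeff_eq_zero.1 e.symm))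

theorem eq_zero_of_evNonneg_neg {P : ℚ[X]} (h : EvNonneg P) (h' : EvNonneg (-P)) : P = 0 := by
  by_contra h0
  have h1 := evPos_iff.1 (h.evPos_of_ne h0)
  have h2 := evNonneg_iff.1 h'
  rw [leadingCoeff_neg] at h2
  linarith

theorem not_evPos_neg {P : ℚ[X]} (h : EvNonneg P) : ¬ EvPos (-P) :=
  fun h' => h'.ne_zero (by simpa using eq_zero_of_evNonneg_neg h h'.evNonneg)

theorem evPos_or_evNonneg_neg (P : ℚ[X]) : EvPos P ∨ EvNonneg (-P) := by
  rw [evPos_iff, evNonneg_iff, leadingCoeff_neg, neg_nonneg]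
  exact lt_or_ge 0 _

theorem eq_of_eval_nat {P Q : ℚ[X]} (h : ∀ m : ℕ, P.eval (m : ℚ) = Q.eval (m : ℚ)) : P = Q :=
  eq_of_infinite_eval_eq P Q ((Set.infinite_range_of_injective Nat.cast_injective).mono
    (by rintro _ ⟨m, rfl⟩; exact h m))

/-! ### The cross difference -/

/-- `alpha P • Q - alpha Q • P`. -/
def cross (d : ℕ) (P Q : ℚ[X]) : ℚ[X] := StabCat.alpha d P • Q - StabCat.alpha d Q • P

theorem redLE_iff {d : ℕ} {P Q : ℚ[X]} : StabCat.RedLE d P Q ↔ EvNonneg (cross d P Q) := by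
  simp [StabCat.RedLE, StabCat.PolyLE, EvNonneg, cross, sub_nonneg]

theorem redLT_iff {d : ℕ} {P Q : ℚ[X]} : StabCat.RedLT d P Q ↔ EvPos (cross d P Q) := by
  simp [StabCat.RedLT, StabCat.PolyLT, EvPos, cross, sub_pos]

theorem redEq_iff {d : ℕ} {P Q : ℚ[X]} : StabCat.RedEq d P Q ↔ cross d P Q = 0 := by
  rw [StabCat.RedEq, cross, sub_eq_zero]
  exact ⟨Eq.symm, Eq.symm⟩

theorem alpha_add (d : ℕ) (P Q : ℚ[X]) :
    StabCat.alpha d (P + Q) = StabCat.alpha d P + StabCat.alpha d Q := by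
  simp [StabCat.alpha, mul_add]

theorem alpha_smul (d : ℕ) (c : ℚ) (P : ℚ[X]) :
    StabCat.alpha d (c • P) = c * StabCat.alpha d P := by
  simp [StabCat.alpha, mul_left_comm]

@[simp] theorem alpha_zero (d : ℕ) : StabCat.alpha d 0 = 0 := by simp [StabCat.alpha]

theorem cross_self (d : ℕ) (P : ℚ[X]) : cross d P P = 0 := sub_self _

theorem cross_swap (d : ℕ) (P Q : ℚ[X]) : cross d Q P = - cross d P Q := (neg_sub _ _).symm

/-- The seesaw identities. -/
theorem cross_add_right_self (d : ℕ) (P Q : ℚ[X]) : cross d P (P + Q) = cross d P Q := by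
  simp only [cross, alpha_add, smul_add, add_smul]
  abel

theorem cross_add_left_self (d : ℕ) (P Q : ℚ[X]) : cross d (P + Q) Q = cross d P Q := by
  simp only [cross, alpha_add, smul_add, add_smul]
  abel

theorem cross_add_left (d : ℕ) (P P' Q : ℚ[X]) : cross d (P + P') Q = cross d P Q + cross d P' Q := by
  simp only [cross, alpha_add, smul_add, add_smul]
  abel

theorem cross_add_right (d : ℕ) (P Q Q' : ℚ[X]) : cross d P (Q + Q') = cross d P Q + cross d P Q' := by
  simp only [cross, alpha_add, smul_add, add_smul]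
  abel

theorem smul_cross (d : ℕ) (P Q R : ℚ[X]) :
    StabCat.alpha d Q • cross d P R =
      StabCat.alpha d R • cross d P Q + StabCat.alpha d P • cross d Q R := by
  simp only [cross, smul_sub, smul_smul, mul_comm]
  abel

theorem coeff_cross_top (d : ℕ) (P Q : ℚ[X]) : (cross d P Q).coeff d = 0 := by
  simp [cross, StabCat.alpha]
  ring

theorem redLE_refl (d : ℕ) (P : ℚ[X]) : StabCat.RedLE d P P :=
  redLE_iff.2 (by rw [cross_self]; exact evNonneg_zero)

theorem redLE_trans {d : ℕ} {P Q R : ℚ[X]} (hQ : 0 < StabCat.alpha d Q) (hP : 0 ≤ StabCat.alpha d P)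
    (hR : 0 ≤ StabCat.alpha d R) (h₁ : StabCat.RedLE d P Q) (h₂ : StabCat.RedLE d Q R) :
    StabCat.RedLE d P R := by
  rw [redLE_iff] at *
  rw [← evNonneg_smul_iff hQ, smul_cross]
  exact (h₁.smul hR).add (h₂.smul hP)

theorem redLT_of_lt_of_le {d : ℕ} {P Q R : ℚ[X]} (hQ : 0 < StabCat.alpha d Q)
    (hP : 0 ≤ StabCat.alpha d P) (hR : 0 < StabCat.alpha d R) (h₁ : StabCat.RedLT d P Q)
    (h₂ : StabCat.RedLE d Q R) : StabCat.RedLT d P R := by
  rw [redLE_iff] at *
  rw [redLT_iff] at *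
  rw [← evPos_smul_iff hQ, smul_cross]
  exact ((evPos_smul_iff hR).2 h₁).add_evNonneg (h₂.smul hP)

theorem redLT_of_le_of_lt {d : ℕ} {P Q R : ℚ[X]} (hQ : 0 < StabCat.alpha d Q)
    (hP : 0 < StabCat.alpha d P) (hR : 0 ≤ StabCat.alpha d R) (h₁ : StabCat.RedLE d P Q)
    (h₂ : StabCat.RedLT d Q R) : StabCat.RedLT d P R := by
  rw [redLE_iff] at *
  rw [redLT_iff] at *
  rw [← evPos_smul_iff hQ, smul_cross, add_comm]
  exact ((evPos_smul_iff hP).2 h₂).add_evNonneg (h₁.smul hR)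

theorem not_redLT_of_redLE {d : ℕ} {P Q : ℚ[X]} (h : StabCat.RedLE d Q P) : ¬ StabCat.RedLT d P Q := by
  rw [redLT_iff, cross_swap d Q P]
  exact not_evPos_neg (redLE_iff.1 h)

theorem not_redEq_of_redLT {d : ℕ} {P Q : ℚ[X]} (h : StabCat.RedLT d P Q) : ¬ StabCat.RedEq d P Q :=
  fun e => (redLT_iff.1 h).ne_zero (redEq_iff.1 e)

theorem redEq_symm {d : ℕ} {P Q : ℚ[X]} (h : StabCat.RedEq d P Q) : StabCat.RedEq d Q P := Eq.symm h

theorem redLE_of_redEq {d : ℕ} {P Q : ℚ[X]} (h : StabCat.RedEq d P Q) : StabCat.RedLE d P Q :=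
  redLE_iff.2 (by rw [redEq_iff.1 h]; exact evNonneg_zero)

theorem redLE_of_redLT {d : ℕ} {P Q : ℚ[X]} (h : StabCat.RedLT d P Q) : StabCat.RedLE d P Q :=
  redLE_iff.2 (redLT_iff.1 h).evNonneg

theorem redEq_of_le_of_le {d : ℕ} {P Q : ℚ[X]} (h₁ : StabCat.RedLE d P Q) (h₂ : StabCat.RedLE d Q P) :
    StabCat.RedEq d P Q := by
  rw [redLE_iff] at h₁ h₂
  rw [cross_swap d P Q] at h₂
  exact redEq_iff.2 (eq_zero_of_evNonneg_neg h₁ h₂)

theorem redLT_or_redLE (d : ℕ) (P Q : ℚ[X]) : StabCat.RedLT d P Q ∨ StabCat.RedLE d Q P := by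
  rw [redLT_iff, redLE_iff, cross_swap d P Q]
  exact evPos_or_evNonneg_neg _

theorem redEq_trans {d : ℕ} {P Q R : ℚ[X]} (hQ : StabCat.alpha d Q ≠ 0) (h₁ : StabCat.RedEq d P Q)
    (h₂ : StabCat.RedEq d Q R) : StabCat.RedEq d P R := by
  rw [redEq_iff] at *
  apply smul_right_injective ℚ[X] hQ
  simp only [smul_cross, h₁, h₂, smul_zero, add_zero]

/-- Seesaw: the sub object versus the total one. -/
theorem redLE_sub_total_iff {d : ℕ} {P Q : ℚ[X]} :
    StabCat.RedLE d P (P + Q) ↔ StabCat.RedLE d P Q := by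
  rw [redLE_iff, redLE_iff, cross_add_right_self]

theorem redLE_total_quot_iff {d : ℕ} {P Q : ℚ[X]} :
    StabCat.RedLE d (P + Q) Q ↔ StabCat.RedLE d P Q := by
  rw [redLE_iff, redLE_iff, cross_add_left_self]

theorem redLT_sub_total_iff {d : ℕ} {P Q : ℚ[X]} :
    StabCat.RedLT d P (P + Q) ↔ StabCat.RedLT d P Q := by
  rw [redLT_iff, redLT_iff, cross_add_right_self]

theorem redLT_total_quot_iff {d : ℕ} {P Q : ℚ[X]} :
    StabCat.RedLT d (P + Q) Q ↔ StabCat.RedLT d P Q := by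
  rw [redLT_iff, redLT_iff, cross_add_left_self]

/-- A polynomial with vanishing multiplicity and positive values dominates. -/
theorem redLT_of_alpha_eq_zero {d : ℕ} {T Q : ℚ[X]} (hT : StabCat.alpha d T = 0) (hTp : EvPos T)
    (hQ : 0 < StabCat.alpha d Q) : StabCat.RedLT d Q T := by
  rw [redLT_iff, cross, hT, zero_smul, sub_zero, evPos_smul_iff hQ]
  exact hTp

theorem alpha_zero_eq (P : ℚ[X]) : StabCat.alpha 0 P = P.coeff 0 := by simp [StabCat.alpha]

/-- The multiplicity of a polynomial of degree `≤ d` with integral values is an integer. -/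
theorem exists_int_alpha {d : ℕ} {P : ℚ[X]} (hdeg : P.natDegree ≤ d)
    (hint : ∀ m : ℕ, ∃ z : ℤ, P.eval (m : ℚ) = z) : ∃ z : ℤ, StabCat.alpha d P = z := by
  induction d generalizing P with
  | zero =>
    obtain ⟨z, hz⟩ := hint 0
    refine ⟨z, ?_⟩
    rw [alpha_zero_eq, ← hz, Nat.cast_zero, coeff_zero_eq_eval_zero]
  | succ d ih =>
    let D : ℚ[X] := P.comp (X + C 1) - P
    have hD : D.natDegree ≤ d := by
      refine natDegree_le_iff_coeff_eq_zero.2 fun n hn => ?_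
      simp only [D, coeff_sub, sub_eq_zero, ← taylor_apply]
      rcases Nat.lt_or_ge P.natDegree n with h | h
      · rw [coeff_eq_zero_of_natDegree_lt h, coeff_eq_zero_of_natDegree_lt ((natDegree_taylor P 1).le.trans_lt h)]
      · obtain rfl : n = P.natDegree := by omega
        rw [coeff_taylor_natDegree, leadingCoeff]
    have hc : D.coeff d = ((d + 1 : ℕ) : ℚ) * P.coeff (d + 1) := by
      have h := taylor_coeff (r := (1 : ℚ)) P d
      rw [eval_eq_sum_range' (Nat.lt_succ_of_le ((natDegree_hasseDeriv_le P d).trans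
        (Nat.sub_le_iff_le_add.2 (by omega : P.natDegree ≤ 1 + d))))] at h
      simp only [D, coeff_sub, ← taylor_apply, h, one_pow, mul_one, hasseDeriv_coeff,
        Finset.sum_range_succ, Finset.sum_range_zero, Nat.reduceAdd]
      simp [Nat.choose_succ_self_right, add_comm]
    have hi : ∀ m : ℕ, ∃ z : ℤ, D.eval (m : ℚ) = z := fun m => by
      obtain ⟨a, ha⟩ := hint (m + 1)
      obtain ⟨b, hb⟩ := hint m
      refine ⟨a - b, ?_⟩
      simp only [D, eval_sub, eval_comp, eval_add, eval_X, eval_C]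
      push_cast at ha ⊢
      rw [ha, hb]
    obtain ⟨z, hz⟩ := ih hD hi
    refine ⟨z, ?_⟩
    rw [← hz]
    simp only [StabCat.alpha, hc, Nat.factorial_succ]
    push_cast
    ring

theorem coeff_topPart (ℓ d : ℕ) (P : ℚ[X]) (i : ℕ) :
    (StabCat.topPart ℓ d P).coeff i = if i ∈ Finset.Icc (d - ℓ) d then P.coeff i else 0 := by
  simp [StabCat.topPart, coeff_monomial]

theorem alpha_topPart (ℓ d : ℕ) (P : ℚ[X]) :
    StabCat.alpha d (StabCat.topPart ℓ d P) = StabCat.alpha d P := by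
  simp [StabCat.alpha, coeff_topPart]

theorem cross_topPart (ℓ d : ℕ) (P Q : ℚ[X]) :
    cross d (StabCat.topPart ℓ d P) (StabCat.topPart ℓ d Q) = StabCat.topPart ℓ d (cross d P Q) := by
  ext i
  simp only [cross, alpha_topPart, coeff_sub, coeff_smul, coeff_topPart, smul_eq_mul]
  split_ifs <;> ring

theorem topPart_eq_self {d : ℕ} {P : ℚ[X]} (h : P.natDegree ≤ d) : StabCat.topPart d d P = P := by
  ext i
  rw [coeff_topPart]
  rcases Nat.lt_or_ge d i with hi | hi
  · rw [if_neg (by simp; omega), coeff_eq_zero_of_natDegree_lt (h.trans_lt hi)]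
  · rw [if_pos (by simp [hi])]

theorem natDegree_cross {d : ℕ} {P Q : ℚ[X]} (hP : P.natDegree ≤ d) (hQ : Q.natDegree ≤ d) :
    (cross d P Q).natDegree ≤ d :=
  (natDegree_sub_le _ _).trans
    (max_le ((natDegree_smul_le _ _).trans hQ) ((natDegree_smul_le _ _).trans hP))

theorem evNonneg_topPart {ℓ d : ℕ} {D : ℚ[X]} (h : D.natDegree ≤ d) (hD : EvNonneg D) :
    EvNonneg (StabCat.topPart ℓ d D) := by
  rcases Nat.lt_or_ge D.natDegree (d - ℓ) with hlt | hge
  · convert evNonneg_zero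
    ext i
    rw [coeff_topPart, coeff_zero]
    split_ifs with hi
    · exact coeff_eq_zero_of_natDegree_lt (hlt.trans_le (Finset.mem_Icc.1 hi).1)
    · rfl
  · rw [evNonneg_iff] at hD ⊢
    by_cases h0 : D = 0
    · simp [h0, StabCat.topPart]
    have hc : (StabCat.topPart ℓ d D).coeff D.natDegree = D.leadingCoeff := by
      rw [coeff_topPart, if_pos (Finset.mem_Icc.2 ⟨hge, h⟩)]
      rfl
    have hne : D.leadingCoeff ≠ 0 := leadingCoeff_ne_zero.2 h0
    have hnd : (StabCat.topPart ℓ d D).natDegree = D.natDegree := by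
      refine le_antisymm (natDegree_le_iff_coeff_eq_zero.2 fun n hn => ?_)
        (le_natDegree_of_ne_zero (hc ▸ hne))
      rw [coeff_topPart, coeff_eq_zero_of_natDegree_lt hn, ite_self]
    rwa [leadingCoeff, hnd, hc]

theorem redLE_topPart {ℓ d : ℕ} {P Q : ℚ[X]} (hP : P.natDegree ≤ d) (hQ : Q.natDegree ≤ d)
    (h : StabCat.RedLE d P Q) :
    StabCat.RedLE d (StabCat.topPart ℓ d P) (StabCat.topPart ℓ d Q) := by
  rw [redLE_iff, cross_topPart]
  exact evNonneg_topPart (natDegree_cross hP hQ) (redLE_iff.1 h)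

theorem hatSlope_le {d : ℕ} (hd : 1 ≤ d) {P Q : ℚ[X]} (hP : P.natDegree ≤ d) (hQ : Q.natDegree ≤ d)
    (haP : 0 < StabCat.alpha d P) (haQ : 0 < StabCat.alpha d Q) (h : StabCat.RedLE d P Q) :
    StabCat.hatSlope d P ≤ StabCat.hatSlope d Q := by
  have hdeg : (cross d P Q).natDegree ≤ d - 1 := by
    refine natDegree_le_iff_coeff_eq_zero.2 fun n hn => ?_
    rcases Nat.lt_or_ge d n with h' | h'
    · exact coeff_eq_zero_of_natDegree_lt ((natDegree_cross hP hQ).trans_lt h')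
    · obtain rfl : n = d := by omega
      exact coeff_cross_top n P Q
  have h0 : 0 ≤ (cross d P Q).coeff (d - 1) := by
    rcases hdeg.lt_or_eq with h' | h'
    · exact (coeff_eq_zero_of_natDegree_lt h').ge
    · exact h' ▸ evNonneg_iff.1 (redLE_iff.1 h)
  rw [StabCat.hatSlope, StabCat.hatSlope, div_le_div_iff₀ haP haQ]
  simp only [cross, coeff_sub, coeff_smul, smul_eq_mul, StabCat.alpha] at h0 ⊢
  have hf : (0 : ℚ) ≤ ((d - 1).factorial : ℚ) := Nat.cast_nonneg _
  nlinarith [mul_nonneg hf h0]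

end

end Groth.Agent.HP96
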