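import Groth.Agent.Snapper75.Main
import Groth.Agent.HP96.Poly
import Groth.Agent.WC97.Dim
import Groth.Agent.Amp73.Powers
import Groth.Prelude.Def_ShStab

/-!
# Hilbert polynomials of coherent modules on proper schemes over a field

Existence, uniqueness, additivity and the bound of the degree by the dimension of the support.
-/

set_option autoImplicit false
set_option backward.isDefEq.respectTransparency.types false
universe u

open CategoryTheory CategoryTheory.Limits AlgebraicGeometry TopologicalSpace Polynomial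

noncomputable section

namespace Groth.Agent.HP96

/-- The union of two closed sets has the larger dimension. -/
theorem dim_union_eq {T : Type*} [TopologicalSpace T] {A B : Set T} (hA : IsClosed A) (hB : IsClosed B) :
    topologicalKrullDim ↥(A ∪ B) = max (topologicalKrullDim ↥A) (topologicalKrullDim ↥B) := by
  refine le_antisymm ?_ (max_le (TopDim50.dim_mono Set.subset_union_left)
    (TopDim50.dim_mono Set.subset_union_right))
  rw [TopDim50.dim_eq_iSup_of_locallyFinite_closed_cover (X := ↥(A ∪ B))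
    (fun b : Bool => Subtype.val ⁻¹' (if b then A else B))
    (fun b => by cases b <;> simp only [Bool.false_eq_true, if_false, if_true] <;>
      first | exact hA.preimage continuous_subtype_val | exact hB.preimage continuous_subtype_val)
    (locallyFinite_of_finite _)
    (Set.eq_univ_of_forall fun x => Set.mem_iUnion.2 (x.2.elim (fun h => ⟨true, h⟩) (fun h => ⟨false, h⟩)))]
  refine iSup_le fun b => ?_
  cases b
  · exact le_max_of_le_right
      (((Topology.IsEmbedding.subtypeVal.comp Topology.IsEmbedding.subtypeVal).codRestrict B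
        fun x => x.2).isInducing.topologicalKrullDim_le)
  · exact le_max_of_le_left
      (((Topology.IsEmbedding.subtypeVal.comp Topology.IsEmbedding.subtypeVal).codRestrict A
        fun x => x.2).isInducing.topologicalKrullDim_le)

variable (k : Type u) [Field k] {X : Scheme.{u}} [X.Over (Spec (CommRingCat.of k))]
  [IsProper (X ↘ Spec (CommRingCat.of k))]

include k in
/-- A proper scheme over a field has finite dimension. -/
theorem exists_dim_lt : ∃ d : ℕ, topologicalKrullDim X < (d : WithBot ℕ∞) := by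
  have := Crv77.isNoetherian_of_proper k X
  have hfin := NoetherianSpace.finite_irreducibleComponents (α := X)
  choose c hc using fun C : irreducibleComponents X =>
    QuasiSober.sober C.2.1 (isClosed_of_mem_irreducibleComponents C.1 C.2)
  have := hfin.fintype
  let g : irreducibleComponents X → ℕ := fun C => WC97.tdegN (X ↘ Spec (CommRingCat.of k)) (c C)
  refine ⟨Finset.univ.sup g + 1, lt_of_le_of_lt
    (b := ((Finset.univ.sup g : ℕ) : WithBot ℕ∞)) ?_ (by exact_mod_cast Nat.lt_succ_self _)⟩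
  rw [TopDim50.dim_eq_iSup_irreducibleComponents]
  refine iSup₂_le fun C hC => ?_
  have e : C = closure {c ⟨C, hC⟩} := (hc ⟨C, hC⟩).def.symm
  rw [e, WC97.topologicalKrullDim_closure (X ↘ Spec (CommRingCat.of k))]
  exact_mod_cast Finset.le_sup (f := g) (Finset.mem_univ ⟨C, hC⟩)

include k in
theorem exists_dim_supp_lt (F : X.Modules) :
    ∃ d : ℕ, topologicalKrullDim (CohB1.support F) < (d : WithBot ℕ∞) := by
  obtain ⟨d, hd⟩ := exists_dim_lt (X := X) k
  exact ⟨d, lt_of_le_of_lt (topologicalKrullDim_subspace_le X _) hd⟩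

variable {L : X.Modules} (hL : PicF.IsInvertible L)

omit [IsProper (X ↘ Spec (CommRingCat.of k))] in
theorem chi_eq_euler_twist (F : X.Modules) (m : ℕ) :
    Snapper75.chi k (fun _ : Fin 1 => L) F (fun _ => m) = (Curv2.euler k X (ShStab.twist X L F m) : ℚ) :=
  rfl

theorem exists_poly_of_polySub {d : ℕ} {f : (Fin 1 → ℕ) → ℚ} (hf : f ∈ Snapper75.polySub 1 d) :
    ∃ P : ℚ[X], (∀ n, d ≤ n → P.coeff n = 0) ∧ ∀ m : ℕ, f (fun _ => m) = P.eval (m : ℚ) := by
  induction hf using Submodule.span_induction with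
  | mem g hg =>
    obtain ⟨e, he, rfl⟩ := hg
    have he' : e 0 < d := by simpa using he
    refine ⟨Polynomial.X ^ e 0, fun n hn => ?_, fun m => by simp [Snapper75.monoFn]⟩
    rw [coeff_X_pow, if_neg (by omega)]
  | zero => exact ⟨0, fun _ _ => coeff_zero _, fun _ => by simp⟩
  | add g h _ _ ihg ihh =>
    obtain ⟨P, hP, hP'⟩ := ihg
    obtain ⟨Q, hQ, hQ'⟩ := ihh
    exact ⟨P + Q, fun n hn => by simp [hP n hn, hQ n hn], fun m => by simp [hP' m, hQ' m]⟩
  | smul a g _ ih =>
    obtain ⟨P, hP, hP'⟩ := ih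
    exact ⟨a • P, fun n hn => by simp [hP n hn], fun m => by simp [hP' m]⟩

include hL in
/-- Existence of the Hilbert polynomial, with the degree bound. -/
theorem exists_hilbPoly {F : X.Modules} (hF : Coh.IsCoh F) {d : ℕ}
    (hd : topologicalKrullDim (CohB1.support F) < (d : WithBot ℕ∞)) :
    ∃ P : ℚ[X], ShStab.IsHilbPoly k X L F P ∧ ∀ n, d ≤ n → P.coeff n = 0 := by
  obtain ⟨P, hP, hP'⟩ := exists_poly_of_polySub
    (Snapper75.chi_mem_polySub k (L := fun _ : Fin 1 => L) (fun _ => hL) d F hF hd)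
  exact ⟨P, fun m => (chi_eq_euler_twist k F m).symm.trans (hP' m), hP⟩

omit [IsProper (X ↘ Spec (CommRingCat.of k))] in
theorem isHilbPoly_unique {F : X.Modules} {P Q : ℚ[X]} (hP : ShStab.IsHilbPoly k X L F P)
    (hQ : ShStab.IsHilbPoly k X L F Q) : P = Q :=
  eq_of_eval_nat fun m => (hP m).symm.trans (hQ m)

/-- The Hilbert polynomial (zero where there is none). -/
def hp (L F : X.Modules) : ℚ[X] :=
  open Classical in if h : ∃ P, ShStab.IsHilbPoly k X L F P then h.choose else 0

include hL in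
theorem isHilbPoly_hp {F : X.Modules} (hF : Coh.IsCoh F) : ShStab.IsHilbPoly k X L F (hp k L F) := by
  obtain ⟨d, hd⟩ := exists_dim_supp_lt k F
  obtain ⟨P, hP, -⟩ := exists_hilbPoly k hL hF hd
  rw [hp, dif_pos ⟨P, hP⟩]
  exact Exists.choose_spec (⟨P, hP⟩ : ∃ Q, ShStab.IsHilbPoly k X L F Q)

omit [IsProper (X ↘ Spec (CommRingCat.of k))] in
theorem eq_hp {F : X.Modules} {P : ℚ[X]} (hP : ShStab.IsHilbPoly k X L F P) : P = hp k L F := by
  rw [hp, dif_pos ⟨P, hP⟩]
  exact isHilbPoly_unique k hP (Exists.choose_spec (⟨P, hP⟩ : ∃ Q, ShStab.IsHilbPoly k X L F Q))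

attribute [irreducible] hp

include hL in
theorem coeff_hp_eq_zero {F : X.Modules} (hF : Coh.IsCoh F) {d n : ℕ}
    (hd : topologicalKrullDim (CohB1.support F) < (d : WithBot ℕ∞)) (hn : d ≤ n) :
    (hp k L F).coeff n = 0 := by
  obtain ⟨P, hP, hP'⟩ := exists_hilbPoly k hL hF hd
  rw [← eq_hp k hP]
  exact hP' n hn

include hL in
theorem natDegree_hp_le {F : X.Modules} (hF : Coh.IsCoh F) {d : ℕ}
    (hd : topologicalKrullDim (CohB1.support F) ≤ (d : WithBot ℕ∞)) : (hp k L F).natDegree ≤ d :=
  natDegree_le_iff_coeff_eq_zero.2 fun _ hn =>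
    coeff_hp_eq_zero k hL hF (lt_of_le_of_lt hd (by exact_mod_cast Nat.lt_succ_self d)) hn

include hL in
theorem alpha_hp_eq_zero {F : X.Modules} (hF : Coh.IsCoh F) {d : ℕ}
    (hd : topologicalKrullDim (CohB1.support F) < (d : WithBot ℕ∞)) :
    StabCat.alpha d (hp k L F) = 0 := by
  rw [StabCat.alpha, coeff_hp_eq_zero k hL hF hd le_rfl, mul_zero]

include hL in
theorem hp_eq_zero_of_isZero {F : X.Modules} (hF : IsZero F) : hp k L F = 0 := by
  refine (eq_hp k (fun m => ?_)).symm
  rw [← chi_eq_euler_twist k F m, Snapper75.chi_eq_zero_of_isZero k (L := fun _ : Fin 1 => L) (fun _ => hL) hF]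
  simp

include hL in
theorem hp_add {S : ShortComplex X.Modules} (hS : S.ShortExact)
    (h₁ : Coh.IsCoh S.X₁) (h₂ : Coh.IsCoh S.X₂) (h₃ : Coh.IsCoh S.X₃) :
    hp k L S.X₂ = hp k L S.X₁ + hp k L S.X₃ := by
  refine (eq_hp k (fun m => ?_)).symm
  rw [eval_add, ← chi_eq_euler_twist k S.X₂ m,
    Snapper75.chi_add k (L := fun _ : Fin 1 => L) (fun _ => hL) hS h₁ h₂ h₃]
  rw [Pi.add_apply, chi_eq_euler_twist, chi_eq_euler_twist, isHilbPoly_hp k hL h₁ m, isHilbPoly_hp k hL h₃ m]

include hL in
theorem hp_congr {F G : X.Modules} (e : F ≅ G) (hG : Coh.IsCoh G) : hp k L F = hp k L G := by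
  refine (eq_hp k (fun m => ?_)).symm
  rw [← chi_eq_euler_twist k F m, Snapper75.chi_congr k (fun _ : Fin 1 => L) e, chi_eq_euler_twist,
    isHilbPoly_hp k hL hG m]

include hL in
theorem hp_biproduct {F : X.Modules} (hF : Coh.IsCoh F) (r : ℕ) :
    hp k L (⨁ fun _ : Fin r => F) = (r : ℚ) • hp k L F := by
  refine (eq_hp k (fun m => ?_)).symm
  rw [← chi_eq_euler_twist k _ m, Snapper75.chi_coproduct k (L := fun _ : Fin 1 => L) (fun _ => hL) hF r,
    Pi.smul_apply, chi_eq_euler_twist, isHilbPoly_hp k hL hF m, eval_smul]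

include hL in
theorem hp_eval_int {F : X.Modules} (hF : Coh.IsCoh F) (m : ℕ) :
    ∃ z : ℤ, (hp k L F).eval (m : ℚ) = z :=
  ⟨_, (isHilbPoly_hp k hL hF m).symm⟩

/-- Supports in short exact sequences. -/
theorem support_X₂ {S : ShortComplex X.Modules} (hS : S.ShortExact) :
    CohB1.support S.X₂ = CohB1.support S.X₁ ∪ CohB1.support S.X₃ := by
  have := hS.mono_f; have := hS.epi_g
  refine Set.Subset.antisymm (fun x hx => ?_)
    (Set.union_subset (QC70.mem_support_of_mono S.f) (QC70.mem_support_of_epi S.g))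
  by_contra h
  rw [Set.mem_union, not_or] at h
  have h1 := QC70.notMem_support_iff.1 h.1
  have h3 := QC70.notMem_support_iff.1 h.2
  refine hx (subsingleton_of_forall_eq 0 fun e => ?_)
  obtain ⟨a, rfl⟩ := QC70.stalkMapM_exact S hS.exact x e (h3.elim _ _)
  rw [h1.elim a 0]
  exact map_zero ((TopCat.Presheaf.stalkFunctor _ x).map S.f.mapPresheaf).hom

theorem dim_support_X₂ {S : ShortComplex X.Modules} (hS : S.ShortExact)
    (h₁ : Coh.IsCoh S.X₁) (h₃ : Coh.IsCoh S.X₃) :
    topologicalKrullDim (CohB1.support S.X₂) =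
      max (topologicalKrullDim (CohB1.support S.X₁)) (topologicalKrullDim (CohB1.support S.X₃)) := by
  have := h₁.2; have := h₃.2
  rw [support_X₂ hS, dim_union_eq (QC70.isClosed_support S.X₁) (QC70.isClosed_support S.X₃)]

theorem support_congr {F G : X.Modules} (e : F ≅ G) : CohB1.support F = CohB1.support G :=
  Set.Subset.antisymm (QC70.mem_support_of_mono e.hom) (QC70.mem_support_of_mono e.inv)

theorem support_eq_empty_of_isZero {F : X.Modules} (hF : IsZero F) : CohB1.support F = ∅ := by
  refine Set.eq_empty_of_forall_notMem fun x => QC70.notMem_support_iff.2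
    (subsingleton_of_forall_eq 0 fun e => ?_)
  obtain ⟨W, hW, s, rfl⟩ := QC70.germM_exist e
  have hs : s = 0 := by
    have := congrArg (fun φ : F ⟶ F => φ.app W s) ((IsZero.iff_id_eq_zero _).1 hF)
    simpa using this
  rw [hs]
  exact QC70.germM_zero hW

theorem isZero_iff_support_eq_empty {F : X.Modules} : IsZero F ↔ CohB1.support F = ∅ :=
  ⟨support_eq_empty_of_isZero, QC70.isZero_of_support_eq_empty⟩

theorem dim_support_nonneg {F : X.Modules} (hF : ¬ IsZero F) :
    0 ≤ topologicalKrullDim (CohB1.support F) := by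
  have : Nonempty (CohB1.support F) :=
    (Set.nonempty_iff_ne_empty.2 fun h => hF (QC70.isZero_of_support_eq_empty h)).to_subtype
  exact TopDim50.dim_nonneg

include k in
theorem exists_dim_eq {F : X.Modules} (hF : ¬ IsZero F) :
    ∃ d : ℕ, topologicalKrullDim (CohB1.support F) = (d : WithBot ℕ∞) := by
  obtain ⟨D, hD⟩ := exists_dim_supp_lt k F
  have h0 := dim_support_nonneg hF
  revert hD h0
  generalize topologicalKrullDim (CohB1.support F) = a
  intro hD h0
  obtain ⟨b, rfl⟩ := WithBot.ne_bot_iff_exists.1 (ne_bot_of_le_ne_bot (by decide) h0)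
  have : b ≠ ⊤ := fun h => by subst h; exact not_le.2 hD (by exact_mod_cast (le_top : (D : ℕ∞) ≤ ⊤))
  obtain ⟨e, rfl⟩ := ENat.ne_top_iff_exists.1 this
  exact ⟨e, rfl⟩

end Groth.Agent.HP96
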