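import Groth.Agent.HP96.Stab
import Groth.Agent.RB70.FlatBC
import Groth.Agent.FBase64.AssTensor.Over
import Groth.Agent.Desc59.AmpleDesc
import Groth.Agent.Amp73.PullTensor
import Groth.Agent.LimTop61.ModExact
import Groth.Agent.Var76.FibBC
import Mathlib.LinearAlgebra.Dimension.Constructions

/-!
# Hilbert polynomials and extension of the ground field
-/

set_option autoImplicit false
set_option backward.isDefEq.respectTransparency.types false
universe u

open CategoryTheory CategoryTheory.Limits AlgebraicGeometry TensorProduct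

noncomputable section

namespace Groth.Agent.HP96

variable {k K : Type u} [Field k] [Field K] [Algebra k K] {X : Scheme.{u}}
  [X.Over (Spec (CommRingCat.of k))] [IsProper (X ↘ Spec (CommRingCat.of k))]

/-- Euler characteristics do not change under extension of the ground field. -/
theorem euler_bc {F : X.Modules} (hF : Coh.IsCoh F) :
    letI : (Curv2.bc k X K).Over (Spec (CommRingCat.of K)) := ⟨Curv2.bcSnd k X K⟩
    Curv2.euler K (Curv2.bc k X K) ((Scheme.Modules.pullback (Curv2.bcFst k X K)).obj F) =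
      Curv2.euler k X F := by
  letI : (Curv2.bc k X K).Over (Spec (CommRingCat.of K)) := ⟨Curv2.bcSnd k X K⟩
  haveI := hF.1
  obtain ⟨ι, hι, U, L, φ, N, hU, hU', -, -, hφ⟩ :=
    Mum71.exists_model k F hF (FBase64.AssTensor.isFlatOver_field (X ↘ Spec (CommRingCat.of k)) F)
  refine finsum_congr fun i => ?_
  obtain ⟨e⟩ := RB70.nonempty_hh_flat_bc (B := K) (X' := Curv2.bc k X K) (g := Curv2.bcFst k X K)
    (IsPullback.of_hasPullback _ _) hU hU' hφ i
  rw [← e.finrank_eq, Module.finrank_baseChange]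

theorem isCoh_bc {F : X.Modules} (hF : Coh.IsCoh F) :
    Coh.IsCoh ((Scheme.Modules.pullback (Curv2.bcFst k X K)).obj F) :=
  haveI := hF.1
  haveI := hF.2
  ⟨QCPull72.isQuasicoherent_pullback _ F, QCPull72.isFiniteType_pullback _ F⟩

theorem mono_bc {F G : X.Modules} (ι : F ⟶ G) [Mono ι] (hF : Coh.IsCoh F) (hG : Coh.IsCoh G) :
    Mono ((Scheme.Modules.pullback (Curv2.bcFst k X K)).map ι) :=
  haveI := hF.1
  haveI := hG.1
  haveI : Flat (Spec.map (CommRingCat.ofHom (algebraMap k K))) := Var76.FibBC.flat_of_field _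
  haveI : Flat (Curv2.bcFst k X K) := inferInstanceAs (Flat (pullback.fst _ _))
  LimTop61.mono_pullback_map_of_flat _ ι

/-- The Hilbert polynomial does not change under extension of the ground field. -/
theorem isHilbPoly_bc {L E : X.Modules} (hL : PicF.IsInvertible L) (hE : Coh.IsCoh E) :
    letI : (Curv2.bc k X K).Over (Spec (CommRingCat.of K)) := ⟨Curv2.bcSnd k X K⟩
    ShStab.IsHilbPoly K (Curv2.bc k X K) ((Scheme.Modules.pullback (Curv2.bcFst k X K)).obj L)
      ((Scheme.Modules.pullback (Curv2.bcFst k X K)).obj E) (hp k L E) := by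
  letI : (Curv2.bc k X K).Over (Spec (CommRingCat.of K)) := ⟨Curv2.bcSnd k X K⟩
  intro m
  have hLm : PicF.IsInvertible (CohB1.tensorPow L m) := EGA73.isInvertible_tensorPow hL m
  let p := Curv2.bcFst k X K
  let e : (Scheme.Modules.pullback p).obj (ShStab.twist X L E m) ≅
      ShStab.twist (Curv2.bc k X K) ((Scheme.Modules.pullback p).obj L)
        ((Scheme.Modules.pullback p).obj E) m :=
    Desc59.AmpleDesc.pullTensIso p E (CohB1.tensorPow L m) ≪≫ EGA73.tensIso (Iso.refl _) (Amp73.pullPowIso p hL m)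
  rw [← Crv77.euler_congr e,
    show Curv2.euler K (Curv2.bc k X K) ((Scheme.Modules.pullback p).obj (ShStab.twist X L E m)) =
      Curv2.euler k X (ShStab.twist X L E m) from
      euler_bc (k := k) (K := K) (Crv77.isCoh_tensorMod hE (Crv77.isCoh_of_isInvertible hLm))]
  exact isHilbPoly_hp k hL hE m

/-- Semistability descends along extensions of the ground field. -/
theorem isSemistable_of_bc {L E : X.Modules} (hL : CohB1.IsAmple L) {d : ℕ} (hE : Coh.IsCoh E)
    (hpu : ShStab.IsPure X E d)
    (hK : letI : (Curv2.bc k X K).Over (Spec (CommRingCat.of K)) := ⟨Curv2.bcSnd k X K⟩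
      ShStab.IsSemistable K (Curv2.bc k X K) ((Scheme.Modules.pullback (Curv2.bcFst k X K)).obj L)
        ((Scheme.Modules.pullback (Curv2.bcFst k X K)).obj E) d) :
    ShStab.IsSemistable k X L E d := by
  letI : (Curv2.bc k X K).Over (Spec (CommRingCat.of K)) := ⟨Curv2.bcSnd k X K⟩
  haveI : IsProper (Curv2.bc k X K ↘ Spec (CommRingCat.of K)) :=
    MorphismProperty.pullback_snd (P := @IsProper) _ _ inferInstance
  let p := Curv2.bcFst k X K
  have hLK : PicF.IsInvertible ((Scheme.Modules.pullback p).obj L) := Amp73.isInvertible_pullback p hL.1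
  refine ⟨hE, fun h0 => hK.2.1 ?_, hpu, fun F ι hι hF hF0 hi pF pE hpF hpE => ?_⟩
  · exact Functor.map_isZero (Scheme.Modules.pullback p) h0
  rw [eq_hp k hpF, eq_hp k hpE]
  haveI := mono_bc (k := k) (K := K) ι hF hE
  have hne : hp k L F ≠ hp k L E := fun h => hi (isIso_of_hp_eq hL hF hE ι h (Or.inl hι))
  refine hK.2.2.2 _ ((Scheme.Modules.pullback p).map ι) inferInstance (isCoh_bc hF) (fun hz => ?_)
    (fun hiso => ?_) _ _ (isHilbPoly_bc hL.1 hF) (isHilbPoly_bc hL.1 hE)
  · refine (evPos_hp k hL hF hF0).ne_zero ?_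
    exact (eq_hp K (isHilbPoly_bc hL.1 hF)).trans (hp_eq_zero_of_isZero K hLK hz)
  · refine hne ?_
    rw [eq_hp K (isHilbPoly_bc (K := K) hL.1 hF), eq_hp K (isHilbPoly_bc (K := K) hL.1 hE)]
    exact hp_congr K hLK (asIso ((Scheme.Modules.pullback p).map ι)) (isCoh_bc hE)

end Groth.Agent.HP96
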