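import Groth.Agent.HP96.Sub

/-!
# Formal properties of semistable and stable sheaves
-/

set_option autoImplicit false
set_option backward.isDefEq.respectTransparency.types false
universe u

open CategoryTheory CategoryTheory.Limits AlgebraicGeometry Polynomial StabCat

noncomputable section

namespace Groth.Agent.HP96

variable {k : Type u} [Field k] {X : Scheme.{u}} [X.Over (Spec (CommRingCat.of k))]
  [IsProper (X ↘ Spec (CommRingCat.of k))] {L : X.Modules} (hL : CohB1.IsAmple L) {d : ℕ}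

omit [X.Over (Spec (CommRingCat.of k))] [IsProper (X ↘ Spec (CommRingCat.of k))] in
theorem pure_dim {E : X.Modules} (hp : ShStab.IsPure X E d) (hE : Coh.IsCoh E) (h0 : ¬ IsZero E) :
    topologicalKrullDim (CohB1.support E) = (d : WithBot ℕ∞) :=
  hp E (𝟙 E) inferInstance hE h0

include hL in
theorem alpha_sub_pos {E F : X.Modules} (hpu : ShStab.IsPure X E d) (ι : F ⟶ E) [Mono ι]
    (hF : Coh.IsCoh F) (hF0 : ¬ IsZero F) : 0 < alpha d (hp k L F) :=
  (alpha_pos_iff k hL hF (hpu F ι ‹_› hF hF0).le).2 (hpu F ι ‹_› hF hF0)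

include hL in
theorem alpha_pure_pos {E : X.Modules} (hpu : ShStab.IsPure X E d) (hE : Coh.IsCoh E) (h0 : ¬ IsZero E) :
    0 < alpha d (hp k L E) :=
  alpha_sub_pos hL hpu (𝟙 E) hE h0

include hL in
theorem alpha_quot_nonneg {E G : X.Modules} (hd : topologicalKrullDim (CohB1.support E) ≤ (d : WithBot ℕ∞))
    (π : E ⟶ G) [Epi π] (hG : Coh.IsCoh G) : 0 ≤ alpha d (hp k L G) :=
  alpha_nonneg k hL hG ((dim_quot_le π).trans hd)

/-- The Hilbert polynomial form of semistability. -/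
theorem ss_hp {E : X.Modules} (h : ShStab.IsSemistable k X L E d) (hL : CohB1.IsAmple L) {F : X.Modules}
    (ι : F ⟶ E) [Mono ι] (hF : Coh.IsCoh F) (hF0 : ¬ IsZero F) (hi : ¬ IsIso ι) :
    RedLE d (hp k L F) (hp k L E) :=
  h.2.2.2 F ι ‹_› hF hF0 hi _ _ (isHilbPoly_hp k hL.1 hF) (isHilbPoly_hp k hL.1 h.1)

theorem st_hp {E : X.Modules} (h : ShStab.IsStable k X L E d) (hL : CohB1.IsAmple L) {F : X.Modules}
    (ι : F ⟶ E) [Mono ι] (hF : Coh.IsCoh F) (hF0 : ¬ IsZero F) (hi : ¬ IsIso ι) :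
    RedLT d (hp k L F) (hp k L E) :=
  h.2.2.2 F ι ‹_› hF hF0 hi _ _ (isHilbPoly_hp k hL.1 hF) (isHilbPoly_hp k hL.1 h.1)

theorem semistable_of_stable {E : X.Modules} (h : ShStab.IsStable k X L E d) :
    ShStab.IsSemistable k X L E d :=
  ⟨h.1, h.2.1, h.2.2.1, fun F ι hm hok hz hi pF pE hF hE =>
    redLE_of_redLT (h.2.2.2 F ι hm hok hz hi pF pE hF hE)⟩

include hL in
theorem ss_sub_le {E F : X.Modules} (h : ShStab.IsSemistable k X L E d) (ι : F ⟶ E) [Mono ι]
    (hF : Coh.IsCoh F) (hF0 : ¬ IsZero F) : RedLE d (hp k L F) (hp k L E) := by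
  by_cases hi : IsIso ι
  · rw [hp_congr k hL.1 (asIso ι) h.1]; exact redLE_refl _ _
  · exact ss_hp h hL ι hF hF0 hi

include hL in
theorem ss_le_quot {F G : X.Modules} (hF : ShStab.IsSemistable k X L F d) (q : F ⟶ G) [Epi q]
    (hG : Coh.IsCoh G) (hG0 : ¬ IsZero G) : RedLE d (hp k L F) (hp k L G) := by
  by_cases hK : IsZero (kernel q)
  · have := mono_of_isZero_kernel hK
    have := isIso_of_mono_of_epi q
    rw [hp_congr k hL.1 (asIso q) hG]; exact redLE_refl _ _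
  · have hne : ¬ IsIso (kernel.ι q) := fun h => hG0 (IsZero.of_epi_eq_zero q (isZero_of_isIso_kernel_ι h))
    have := ss_hp hF hL (kernel.ι q) (isCoh_ker k q hF.1 hG) hK hne
    rw [hp_epi k hL.1 q hF.1 hG] at this ⊢
    exact redLE_total_quot_iff.2 (redLE_sub_total_iff.1 this)

include hL in
theorem st_lt_quot {F G : X.Modules} (hF : ShStab.IsStable k X L F d) (q : F ⟶ G) [Epi q]
    (hG : Coh.IsCoh G) (hG0 : ¬ IsZero G) (hK : ¬ IsZero (kernel q)) :
    RedLT d (hp k L F) (hp k L G) := by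
  have hne : ¬ IsIso (kernel.ι q) := fun h => hG0 (IsZero.of_epi_eq_zero q (isZero_of_isIso_kernel_ι h))
  have := st_hp hF hL (kernel.ι q) (isCoh_ker k q hF.1 hG) hK hne
  rw [hp_epi k hL.1 q hF.1 hG] at this ⊢
  exact redLT_total_quot_iff.2 (redLT_sub_total_iff.1 this)

include hL in
theorem hom_eq_zero {F G : X.Modules} (hF : ShStab.IsSemistable k X L F d)
    (hG : ShStab.IsSemistable k X L G d) (hlt : RedLT d (hp k L G) (hp k L F)) (φ : F ⟶ G) : φ = 0 := by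
  obtain ⟨I, q, i, _, _, hI, rfl⟩ := exists_image k φ hF.1 hG.1
  by_cases hI0 : IsZero I
  · rw [hI0.eq_zero_of_tgt q, Limits.zero_comp]
  have hIp := alpha_sub_pos (k := k) hL hG.2.2.1 i hI hI0
  exact absurd hlt (not_redLT_of_redLE (redLE_trans hIp
    (alpha_pure_pos hL hF.2.2.1 hF.1 hF.2.1).le (alpha_pure_pos hL hG.2.2.1 hG.1 hG.2.1).le
    (ss_le_quot hL hF q hI hI0) (ss_sub_le hL hG i hI hI0)))

include hL in
theorem mono_of_stable {F G : X.Modules} (hF : ShStab.IsStable k X L F d)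
    (hG : ShStab.IsSemistable k X L G d) (heq : RedEq d (hp k L F) (hp k L G)) (φ : F ⟶ G)
    (hφ : φ ≠ 0) : Mono φ := by
  obtain ⟨I, q, i, _, _, hI, rfl⟩ := exists_image k φ hF.1 hG.1
  have hI0 : ¬ IsZero I := fun h => hφ (by rw [h.eq_zero_of_tgt q, Limits.zero_comp])
  by_cases hK : IsZero (kernel q)
  · have := mono_of_isZero_kernel hK
    exact mono_comp q i
  · exact absurd heq (not_redEq_of_redLT (redLT_of_lt_of_le (alpha_sub_pos hL hG.2.2.1 i hI hI0)
      (alpha_pure_pos hL hF.2.2.1 hF.1 hF.2.1).le (alpha_pure_pos hL hG.2.2.1 hG.1 hG.2.1)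
      (st_lt_quot hL hF q hI hI0 hK) (ss_sub_le hL hG i hI hI0)))

include hL in
theorem epi_of_stable {F G : X.Modules} (hF : ShStab.IsSemistable k X L F d)
    (hG : ShStab.IsStable k X L G d) (heq : RedEq d (hp k L F) (hp k L G)) (φ : F ⟶ G)
    (hφ : φ ≠ 0) : Epi φ := by
  obtain ⟨I, q, i, _, _, hI, rfl⟩ := exists_image k φ hF.1 hG.1
  have hI0 : ¬ IsZero I := fun h => hφ (by rw [h.eq_zero_of_tgt q, Limits.zero_comp])
  by_cases hi : IsIso i
  · exact epi_comp q i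
  · exact absurd heq (not_redEq_of_redLT (redLT_of_le_of_lt (alpha_sub_pos hL hG.2.2.1 i hI hI0)
      (alpha_pure_pos hL hF.2.2.1 hF.1 hF.2.1) (alpha_pure_pos hL hG.2.2.1 hG.1 hG.2.1).le
      (ss_le_quot hL hF q hI hI0) (st_hp hG hL i hI hI0 hi)))

include hL in
theorem isIso_of_hp_eq {F G : X.Modules} (hF : Coh.IsCoh F) (hG : Coh.IsCoh G) (φ : F ⟶ G)
    (he : hp k L F = hp k L G) (h : Mono φ ∨ Epi φ) : IsIso φ := by
  rcases h with h | h
  · refine isIso_of_isZero_cokernel φ ((isZero_iff_hp_eq_zero k hL (QC70.isCoh_cokernel φ hF.1 hG)).2 ?_)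
    have := hp_mono k hL.1 φ hF hG
    rwa [← he, left_eq_add] at this
  · have hz : IsZero (kernel φ) := by
      refine (isZero_iff_hp_eq_zero k hL (isCoh_ker k φ hF hG)).2 ?_
      have := hp_epi k hL.1 φ hF hG
      rwa [he, right_eq_add] at this
    have := mono_of_isZero_kernel hz
    exact isIso_of_mono_of_epi φ

include hL in
theorem isIso_of_stable_left_or_right {F G : X.Modules} (hF : ShStab.IsSemistable k X L F d)
    (hG : ShStab.IsSemistable k X L G d) (hst : ShStab.IsStable k X L F d ∨ ShStab.IsStable k X L G d)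
    (he : hp k L F = hp k L G) (φ : F ⟶ G) (hφ : φ ≠ 0) : IsIso φ := by
  refine isIso_of_hp_eq hL hF.1 hG.1 φ he ?_
  have heq : RedEq d (hp k L F) (hp k L G) := he ▸ redEq_iff.2 (cross_self _ _)
  exact hst.imp (fun h => mono_of_stable hL h hG heq φ hφ) (fun h => epi_of_stable hL hF h heq φ hφ)

include hL in
/-- A submodule of smaller dimension destabilises. -/
theorem redLT_small {E F : X.Modules} (hE : Coh.IsCoh E)
    (hdim : topologicalKrullDim (CohB1.support E) = (d : WithBot ℕ∞))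
    (hF : Coh.IsCoh F) (hF0 : ¬ IsZero F)
    (hFd : topologicalKrullDim (CohB1.support F) < (d : WithBot ℕ∞)) :
    RedLT d (hp k L E) (hp k L F) :=
  redLT_of_alpha_eq_zero (alpha_hp_eq_zero k hL.1 hF hFd) (evPos_hp k hL hF hF0)
    ((alpha_pos_iff k hL hE hdim.le).2 hdim)

include hL in
theorem isPure_of_isSS {E : X.Modules} (hE : Coh.IsCoh E)
    (hdim : topologicalKrullDim (CohB1.support E) = (d : WithBot ℕ∞))
    (h : StabCat.IsSS Coh.IsCoh (ShStab.IsHilbPoly k X L) d E) : ShStab.IsPure X E d := by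
  intro F ι hι hF hF0
  have hle := (dim_sub_le ι).trans hdim.le
  refine hle.eq_of_not_lt fun hlt => ?_
  have hi : ¬ IsIso ι := fun hi => hlt.ne ((congrArg (fun s : Set X => topologicalKrullDim s)
    (support_congr (asIso ι))).trans hdim)
  exact not_redLT_of_redLE (h F ι hι hF hF0 hi _ _ (isHilbPoly_hp k hL.1 hF) (isHilbPoly_hp k hL.1 hE))
    (redLT_small hL hE hdim hF hF0 hlt)

include hL in
theorem isSS_iff {E : X.Modules} (hE : Coh.IsCoh E) (h0 : ¬ IsZero E)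
    (hdim : topologicalKrullDim (CohB1.support E) = (d : WithBot ℕ∞)) :
    ShStab.IsSemistable k X L E d ↔ StabCat.IsSS Coh.IsCoh (ShStab.IsHilbPoly k X L) d E :=
  ⟨fun h => h.2.2.2, fun h => ⟨hE, h0, isPure_of_isSS hL hE hdim h, h⟩⟩

include hL in
theorem isSt_iff {E : X.Modules} (hE : Coh.IsCoh E) (h0 : ¬ IsZero E)
    (hdim : topologicalKrullDim (CohB1.support E) = (d : WithBot ℕ∞)) :
    ShStab.IsStable k X L E d ↔ StabCat.IsSt Coh.IsCoh (ShStab.IsHilbPoly k X L) d E :=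
  ⟨fun h => h.2.2.2, fun h => ⟨hE, h0, isPure_of_isSS hL hE hdim fun F ι hm hok hz hi pF pE a b =>
    redLE_of_redLT (h F ι hm hok hz hi pF pE a b), h⟩⟩

include hL in
/-- A proper submodule of full multiplicity in a pure module. -/
theorem redLT_of_alpha_eq {E F : X.Modules} (hE : Coh.IsCoh E) (hpu : ShStab.IsPure X E d)
    (ι : F ⟶ E) [Mono ι] (hF : Coh.IsCoh F) (hF0 : ¬ IsZero F) (hi : ¬ IsIso ι)
    (ha : alpha d (hp k L E) ≤ alpha d (hp k L F)) : RedLT d (hp k L F) (hp k L E) := by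
  have hQc := QC70.isCoh_cokernel ι hF.1 hE
  have he := hp_mono k hL.1 ι hF hE
  have hQ0 : 0 ≤ alpha d (hp k L (cokernel ι)) := by
    by_cases h0 : IsZero E
    · exact absurd (h0.of_mono ι) hF0
    · exact alpha_quot_nonneg hL (pure_dim hpu hE h0).le (cokernel.π ι) hQc
  have ha0 : alpha d (hp k L (cokernel ι)) = 0 := by rw [he, alpha_add] at ha; linarith
  rw [he]
  exact redLT_sub_total_iff.2 (redLT_of_alpha_eq_zero ha0 (evPos_hp k hL hQc (not_isZero_cokernel hi))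
    (alpha_sub_pos hL hpu ι hF hF0))

include hL in
theorem topPart_hp {E : X.Modules} (hE : Coh.IsCoh E)
    (hd : topologicalKrullDim (CohB1.support E) ≤ (d : WithBot ℕ∞)) :
    topPart d d (hp k L E) = hp k L E :=
  topPart_eq_self (natDegree_hp_le k hL.1 hE hd)

include hL in
theorem isSS_iff_ellSS {E : X.Modules} (hd : 1 ≤ d) :
    ShStab.IsSemistable k X L E d ↔ ShStab.IsEllSemistable k X L E d d := by
  constructor <;> rintro ⟨hE, h0, hpu, h⟩ <;> refine ⟨hE, h0, hpu, ?_⟩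
  · intro F ι hm hF pF pE hpF hpE ha1 ha2
    rw [eq_hp k hpF, eq_hp k hpE] at *
    rw [topPart_hp hL hF ((dim_sub_le ι).trans (pure_dim hpu hE h0).le),
      topPart_hp hL hE (pure_dim hpu hE h0).le]
    refine h F ι hm hF (fun hz => ?_) (fun hi => ha2.ne ?_) _ _ (isHilbPoly_hp k hL.1 hF)
      (isHilbPoly_hp k hL.1 hE)
    · rw [hp_eq_zero_of_isZero k hL.1 hz, alpha_zero] at ha1; exact lt_irrefl _ ha1
    · rw [hp_congr k hL.1 (asIso ι) hE]
  · intro F ι hm hF hF0 hi pF pE hpF hpE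
    rw [eq_hp k hpF, eq_hp k hpE] at *
    rcases lt_or_ge (alpha d (hp k L F)) (alpha d (hp k L E)) with ha | ha
    · have := h F ι hm hF _ _ (isHilbPoly_hp k hL.1 hF) (isHilbPoly_hp k hL.1 hE)
        (alpha_sub_pos hL hpu ι hF hF0) ha
      rwa [topPart_hp hL hF ((dim_sub_le ι).trans (pure_dim hpu hE h0).le),
        topPart_hp hL hE (pure_dim hpu hE h0).le] at this
    · exact redLE_of_redLT (redLT_of_alpha_eq hL hE hpu ι hF hF0 hi ha)

include hL in
theorem isSt_iff_ellSt {E : X.Modules} (hd : 1 ≤ d) :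
    ShStab.IsStable k X L E d ↔ ShStab.IsEllStable k X L E d d := by
  constructor <;> rintro ⟨hE, h0, hpu, h⟩ <;> refine ⟨hE, h0, hpu, ?_⟩
  · intro F ι hm hF pF pE hpF hpE ha1 ha2
    rw [eq_hp k hpF, eq_hp k hpE] at *
    rw [topPart_hp hL hF ((dim_sub_le ι).trans (pure_dim hpu hE h0).le),
      topPart_hp hL hE (pure_dim hpu hE h0).le]
    refine h F ι hm hF (fun hz => ?_) (fun hi => ha2.ne ?_) _ _ (isHilbPoly_hp k hL.1 hF)
      (isHilbPoly_hp k hL.1 hE)
    · rw [hp_eq_zero_of_isZero k hL.1 hz, alpha_zero] at ha1; exact lt_irrefl _ ha1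
    · rw [hp_congr k hL.1 (asIso ι) hE]
  · intro F ι hm hF hF0 hi pF pE hpF hpE
    rw [eq_hp k hpF, eq_hp k hpE] at *
    rcases lt_or_ge (alpha d (hp k L F)) (alpha d (hp k L E)) with ha | ha
    · have := h F ι hm hF _ _ (isHilbPoly_hp k hL.1 hF) (isHilbPoly_hp k hL.1 hE)
        (alpha_sub_pos hL hpu ι hF hF0) ha
      rwa [topPart_hp hL hF ((dim_sub_le ι).trans (pure_dim hpu hE h0).le),
        topPart_hp hL hE (pure_dim hpu hE h0).le] at this
    · exact redLT_of_alpha_eq hL hE hpu ι hF hF0 hi ha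

include hL in
theorem ellSS_of_ss {E : X.Modules} {ℓ : ℕ} (hE : ShStab.IsSemistable k X L E d) :
    ShStab.IsEllSemistable k X L E d ℓ := by
  refine ⟨hE.1, hE.2.1, hE.2.2.1, fun F ι hm hF pF pE hpF hpE ha1 _ => ?_⟩
  have hd := (pure_dim hE.2.2.1 hE.1 hE.2.1).le
  rw [eq_hp k hpF, eq_hp k hpE] at *
  refine redLE_topPart (natDegree_hp_le k hL.1 hF ((dim_sub_le ι).trans hd))
    (natDegree_hp_le k hL.1 hE.1 hd) (ss_sub_le hL hE ι hF fun hz => ?_)
  rw [hp_eq_zero_of_isZero k hL.1 hz, alpha_zero] at ha1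
  exact lt_irrefl _ ha1

include hL in
theorem muSS_of_ss {E : X.Modules} (hd : 1 ≤ d) (hE : ShStab.IsSemistable k X L E d) :
    ShStab.IsMuSemistable k X L E d := by
  have hdim := pure_dim hE.2.2.1 hE.1 hE.2.1
  refine ⟨hE.1, hE.2.1, hdim, fun F ι hm hF => ?_, fun F ι hm hF pF pE hpF hpE ha1 ha2 => ?_⟩
  · by_cases hF0 : IsZero F
    · have : IsEmpty (TopologicalSpace.IrreducibleCloseds (CohB1.support F)) := by
        rw [support_eq_empty_of_isZero hF0]
        exact ⟨fun C => C.isIrreducible.nonempty.choose.2⟩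
      rw [topologicalKrullDim, Order.krullDim_eq_bot]
      simp
    · rw [hE.2.2.1 F ι hm hF hF0]
      exact_mod_cast (by omega : d + 1 ≠ d)
  · rw [eq_hp k hpF, eq_hp k hpE] at *
    refine hatSlope_le hd (natDegree_hp_le k hL.1 hF ((dim_sub_le ι).trans hdim.le))
      (natDegree_hp_le k hL.1 hE.1 hdim.le) ha1 (ha1.trans ha2) (ss_sub_le hL hE ι hF fun hz => ?_)
    rw [hp_eq_zero_of_isZero k hL.1 hz, alpha_zero] at ha1
    exact lt_irrefl _ ha1

include hL in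
theorem maxDestab_unique {E F₁ F₂ : X.Modules} (ι₁ : F₁ ⟶ E) (ι₂ : F₂ ⟶ E)
    (h₁ : ShStab.IsMaxDestab k X L E d F₁ ι₁) (h₂ : ShStab.IsMaxDestab k X L E d F₂ ι₂) :
    ∃ e : F₁ ≅ F₂, e.hom ≫ ι₂ = ι₁ := by
  obtain ⟨m₁, hc₁, hz₁, H₁⟩ := h₁
  obtain ⟨m₂, hc₂, hz₂, H₂⟩ := h₂
  have p₁ := isHilbPoly_hp k hL.1 hc₁
  have p₂ := isHilbPoly_hp k hL.1 hc₂
  have a := H₁ F₂ ι₂ m₂ hc₂ hz₂ _ _ p₁ p₂
  have b := H₂ F₁ ι₁ m₁ hc₁ hz₁ _ _ p₂ p₁
  have he := redEq_of_le_of_le b.1 a.1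
  obtain ⟨φ, hφ⟩ := b.2 he
  obtain ⟨ψ, hψ⟩ := a.2 (redEq_symm he)
  exact ⟨⟨φ, ψ, (cancel_mono ι₁).1 (by rw [Category.assoc, hψ, hφ, Category.id_comp]),
    (cancel_mono ι₂).1 (by rw [Category.assoc, hφ, hψ, Category.id_comp])⟩, hφ⟩

end Groth.Agent.HP96
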