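import Groth.Agent.HP96.CSub

/-!
# Harder–Narasimhan and Jordan–Hölder filtrations of sheaves
-/

set_option autoImplicit false
set_option backward.isDefEq.respectTransparency.types false
universe u

open CategoryTheory CategoryTheory.Limits AlgebraicGeometry Polynomial StabCat

noncomputable section

namespace Groth.Agent.HP96

variable {X : Scheme.{u}} [AlgebraicGeometry.IsNoetherian X] {E : X.Modules} {hE : Coh.IsCoh E}

/-- A series of coherent submodules as a series of submodules. -/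
def toSub (s : LTSeries (CS hE)) : LTSeries (Subobject E) where
  length := s.length
  toFun i := (s i).1
  step i := s.step i

omit [AlgebraicGeometry.IsNoetherian X] in
theorem isCoh_of_factor {E' : X.Modules} {A B : Subobject E'} (h : A ≤ B)
    (hA : Coh.IsCoh (Subobject.underlying.obj A))
    (hq : Coh.IsCoh (cokernel (Subobject.ofLE A B h))) : Coh.IsCoh (Subobject.underlying.obj B) :=
  QC70.isCoh_X₂ (ShortComplex.mk (Subobject.ofLE A B h) (cokernel.π _) (cokernel.condition _))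
    { exact := ShortComplex.exact_of_g_is_cokernel _ (cokernelIsCokernel _)
      mono_f := inferInstanceAs (Mono (Subobject.ofLE A B h))
      epi_g := inferInstanceAs (Epi (cokernel.π (Subobject.ofLE A B h))) } hA hq

theorem exists_toSub (t : LTSeries (Subobject E)) (h0 : t.head = ⊥)
    (h : ∀ i : Fin t.length, Coh.IsCoh (StabCat.factor t i)) : ∃ s : LTSeries (CS hE), toSub s = t := by
  have hc : ∀ i, Coh.IsCoh (Subobject.underlying.obj (t i)) := by
    intro i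
    induction i using Fin.induction with
    | zero => rw [show t 0 = (⊥ : Subobject E) from h0]; exact isCoh_bot
    | succ i ih => exact isCoh_of_factor (t.step i).le ih (h i)
  exact ⟨⟨t.length, fun i => ⟨t i, hc i⟩, fun i => t.step i⟩, rfl⟩

theorem toSub_injective : Function.Injective (toSub (hE := hE)) := by
  rintro ⟨n, f, hf⟩ ⟨m, g, hg⟩ h
  obtain rfl : n = m := congrArg RelSeries.length h
  obtain rfl : f = g := funext fun i => Subtype.ext (by
    have h' := congr_fun (eq_of_heq (RelSeries.mk.injEq .. ▸ h :).2) i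
    exact h')
  rfl

theorem toSub_head {s : LTSeries (CS hE)} : (toSub s).head = ⊥ ↔ s.head = ⊥ :=
  ⟨fun h => Subtype.ext h, fun h => congrArg Subtype.val h⟩

theorem toSub_last {s : LTSeries (CS hE)} : (toSub s).last = ⊤ ↔ s.last = ⊤ :=
  ⟨fun h => Subtype.ext h, fun h => congrArg Subtype.val h⟩

variable {k : Type u} [Field k] [X.Over (Spec (CommRingCat.of k))]
  [IsProper (X ↘ Spec (CommRingCat.of k))] {L : X.Modules} (hL : CohB1.IsAmple L) {d : ℕ}
  (hd : topologicalKrullDim (CohB1.support E) ≤ (d : WithBot ℕ∞))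

omit [AlgebraicGeometry.IsNoetherian X] in
theorem dim_le_of_pure {E : X.Modules} (hpu : ShStab.IsPure X E d) (hE : Coh.IsCoh E) :
    topologicalKrullDim (CohB1.support E) ≤ (d : WithBot ℕ∞) := by
  by_cases h0 : IsZero E
  · have : IsEmpty (TopologicalSpace.IrreducibleCloseds (CohB1.support E)) := by
      rw [support_eq_empty_of_isZero h0]
      exact ⟨fun C => C.isIrreducible.nonempty.choose.2⟩
    rw [topologicalKrullDim, Order.krullDim_eq_bot]
    exact bot_le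
  · exact (pure_dim hpu hE h0).le

theorem hpVal_mk {F : X.Modules} (ι : F ⟶ E) [Mono ι] (hF : Coh.IsCoh F) :
    (hpVal hE k hL hd).q ⊥ ⟨Subobject.mk ι, mk_coh ι hF⟩ = hp k L F := by
  rw [hpVal_bot]
  exact hp_congr k hL.1 (Subobject.underlyingIso ι) hF

theorem not_isZero_of_ne_bot {A : CS hE} (h : A ≠ ⊥) : ¬ IsZero (Subobject.underlying.obj A.1) :=
  fun hz => h (Subtype.ext (((Subobject.mk_arrow A.1).symm).trans
    (Subobject.mk_eq_bot_iff_zero.2 (hz.eq_zero_of_src _))))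

theorem bot_lt_mk {F : X.Modules} (ι : F ⟶ E) [Mono ι] (hF : Coh.IsCoh F) (h0 : ¬ IsZero F) :
    (⊥ : CS hE) < ⟨Subobject.mk ι, mk_coh ι hF⟩ :=
  bot_lt_iff_ne_bot.2 fun h => h0 (IsZero.of_mono_eq_zero ι
    (Subobject.mk_eq_bot_iff_zero.1 (congrArg Subtype.val h)))

theorem mk_lt_top {F : X.Modules} (ι : F ⟶ E) [Mono ι] (hF : Coh.IsCoh F) (hi : ¬ IsIso ι) :
    (⟨Subobject.mk ι, mk_coh ι hF⟩ : CS hE) < (⊤ : CS hE) :=
  (lt_top_iff_ne_top (α := CS hE)).2 fun h => hi ((Subobject.isIso_iff_mk_eq_top ι).2 (congrArg Subtype.val h))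

include hL hd in
theorem pure_bot_top (hpu : ShStab.IsPure X E d) : (hpVal hE k hL hd).Pure ⊥ ⊤ := fun c hc _ => by
  rw [Val.al, hpVal_bot]
  exact alpha_sub_pos hL hpu c.1.arrow c.2 (not_isZero_of_ne_bot hc.ne')

include hL hd in
theorem ss_bot_top (hs : ShStab.IsSemistable k X L E d) : (hpVal hE k hL hd).SS ⊥ ⊤ := by
  refine ⟨bot_lt_iff_ne_bot.2 ?_, pure_bot_top hL hd hs.2.2.1, fun c hc _ => ?_⟩
  · intro h
    refine hs.2.1 ((isZero_iff_hp_eq_zero k hL hE).2 ?_)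
    rw [← hpVal_bot_top hE k hL hd, h, Val.q_self]
  · rw [hpVal_bot, hpVal_bot_top]
    exact ss_sub_le hL hs c.1.arrow c.2 (not_isZero_of_ne_bot hc.ne')

include hL hd in
theorem isHN_toSub_iff (s : LTSeries (CS hE)) :
    ShStab.IsHNFiltration k X L E d (toSub s) ↔
      s.head = ⊥ ∧ s.last = ⊤ ∧ (hpVal hE k hL hd).IsHN s := by
  constructor
  · rintro ⟨h0, h1, hss, hdec⟩
    refine ⟨toSub_head.1 h0, toSub_last.1 h1,
      fun i => (isSemistable_quoCS_iff hE k hL hd (s.step i).le).1 (hss i), fun i j hij => ?_⟩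
    rw [hpVal_q hE k hL hd (s.step j).le, hpVal_q hE k hL hd (s.step i).le]
    exact hdec i j hij _ _ (isHilbPoly_hp k hL.1 (isCoh_quoCS (s.step i).le))
      (isHilbPoly_hp k hL.1 (isCoh_quoCS (s.step j).le))
  · rintro ⟨h0, h1, hss, hdec⟩
    refine ⟨toSub_head.2 h0, toSub_last.2 h1,
      fun i => (isSemistable_quoCS_iff hE k hL hd (s.step i).le).2 (hss i), fun i j hij p q hpu' hq' => ?_⟩
    have := hdec i j hij
    rw [hpVal_q hE k hL hd (s.step j).le, hpVal_q hE k hL hd (s.step i).le] at this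
    rw [eq_hp k hpu', eq_hp k hq']
    exact this

include hL hd in
theorem isJH_toSub_iff (s : LTSeries (CS hE)) :
    ShStab.IsJHFiltration k X L E d (toSub s) ↔
      s.head = ⊥ ∧ s.last = ⊤ ∧ ∀ i : Fin s.length, (hpVal hE k hL hd).St (s i.castSucc) (s i.succ) ∧
        RedEq d ((hpVal hE k hL hd).q (s i.castSucc) (s i.succ)) ((hpVal hE k hL hd).q ⊥ ⊤) := by
  constructor
  · rintro ⟨h0, h1, h⟩
    refine ⟨toSub_head.1 h0, toSub_last.1 h1,
      fun i => ⟨(isStable_quoCS_iff hE k hL hd (s.step i).le).1 (h i).1, ?_⟩⟩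
    rw [hpVal_q hE k hL hd (s.step i).le, hpVal_bot_top]
    exact (h i).2 _ _ (isHilbPoly_hp k hL.1 (isCoh_quoCS (s.step i).le)) (isHilbPoly_hp k hL.1 hE)
  · rintro ⟨h0, h1, h⟩
    refine ⟨toSub_head.2 h0, toSub_last.2 h1,
      fun i => ⟨(isStable_quoCS_iff hE k hL hd (s.step i).le).2 (h i).1, fun p q hpu' hq' => ?_⟩⟩
    have := (h i).2
    rw [hpVal_q hE k hL hd (s.step i).le, hpVal_bot_top] at this
    rw [eq_hp k hpu', eq_hp k hq']
    exact this

include hE hL in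
/-- Existence and uniqueness of the Harder–Narasimhan filtration. -/
theorem existsUnique_hn (hpu : ShStab.IsPure X E d) :
    ∃! s : LTSeries (Subobject E), ShStab.IsHNFiltration k X L E d s := by
  have hd := dim_le_of_pure hpu hE
  obtain ⟨s, h0, h1, hs, -⟩ := Val.exists_hn (v := hpVal hE k hL hd) ⊥ (pure_bot_top hL hd hpu)
  refine ⟨toSub s, (isHN_toSub_iff hL hd s).2 ⟨h0, h1, hs⟩, fun t ht => ?_⟩
  obtain ⟨t', rfl⟩ := exists_toSub (hE := hE) t ht.1 fun i => (ht.2.2.1 i).1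
  obtain ⟨h0', h1', hs'⟩ := (isHN_toSub_iff hL hd t').1 ht
  rw [hs'.unique hs (h0'.trans h0.symm) (h1'.trans h1.symm)]

include hE hL in
/-- Existence of the maximal destabilising submodule. -/
theorem exists_maxDestab (h0 : ¬ IsZero E) (hpu : ShStab.IsPure X E d) :
    ∃ (F : X.Modules) (ι : F ⟶ E), ShStab.IsMaxDestab k X L E d F ι := by
  have hd := dim_le_of_pure hpu hE
  have hne : (⊥ : CS hE) < ⊤ := bot_lt_iff_ne_bot.2 fun h => h0 ((isZero_iff_hp_eq_zero k hL hE).2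
    (by rw [← hpVal_bot_top hE k hL hd, h, Val.q_self]))
  obtain ⟨F, hF, -, hmax⟩ := Val.exists_maxD (v := hpVal hE k hL hd) hne (pure_bot_top hL hd hpu)
  refine ⟨Subobject.underlying.obj F.1, F.1.arrow, inferInstance, F.2, not_isZero_of_ne_bot hF.ne',
    fun G κ hκ hG hG0 pF pG hpF hpG => ?_⟩
  obtain ⟨h1, h2⟩ := hmax ⟨Subobject.mk κ, mk_coh κ hG⟩ (bot_lt_mk κ hG hG0) le_top
  rw [hpVal_bot hE k hL hd F, hpVal_mk hL hd κ hG] at h1 h2
  rw [eq_hp k hpF, eq_hp k hpG]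
  exact ⟨h1, fun e => ⟨Subobject.ofMkLE κ F.1 (h2 e), Subobject.ofMkLE_arrow _⟩⟩

include hE hL in
/-- Existence of Jordan–Hölder filtrations. -/
theorem exists_jhFiltration (hs : ShStab.IsSemistable k X L E d) :
    ∃ s : LTSeries (Subobject E), ShStab.IsJHFiltration k X L E d s := by
  have hd := dim_le_of_pure hs.2.2.1 hE
  obtain ⟨s, h0, h1, h⟩ := Val.exists_jh (v := hpVal hE k hL hd) (ss_bot_top hL hd hs) ⊥ Val.good_bot
  exact ⟨toSub s, (isJH_toSub_iff hL hd s).2 ⟨h0, h1, h⟩⟩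

include hE hL in
/-- Uniqueness of the associated graded module. -/
theorem jh_unique (hs : ShStab.IsSemistable k X L E d) (s t : LTSeries (Subobject E))
    (h : ShStab.IsJHFiltration k X L E d s) (h' : ShStab.IsJHFiltration k X L E d t) :
    s.length = t.length ∧ Nonempty (StabCat.grObj s ≅ StabCat.grObj t) := by
  have hd := dim_le_of_pure hs.2.2.1 hE
  obtain ⟨s, rfl⟩ := exists_toSub (hE := hE) s h.1 fun i => (h.2.2 i).1.1
  obtain ⟨t, rfl⟩ := exists_toSub (hE := hE) t h'.1 fun i => (h'.2.2 i).1.1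
  obtain ⟨a0, a1, a⟩ := (isJH_toSub_iff hL hd s).1 h
  obtain ⟨b0, b1, b⟩ := (isJH_toSub_iff hL hd t).1 h'
  let R : CS hE × CS hE → CS hE × CS hE → Prop := fun x y =>
    Nonempty (CohDer42.SubMod.quo x.1.1 (x.1.1 ⊔ x.2.1) le_sup_left ≅
      CohDer42.SubMod.quo y.1.1 (y.1.1 ⊔ y.2.1) le_sup_left)
  obtain ⟨e, he⟩ := Val.jh_equiv (ss_bot_top hL hd hs) a0 a1 b0 b1 a b R (fun _ => ⟨Iso.refl _⟩)
    (fun ⟨i⟩ => ⟨i.symm⟩) (fun ⟨i⟩ ⟨j⟩ => ⟨i ≪≫ j⟩) (fun A B => by
      obtain ⟨i⟩ := CohDer42.SubMod.second_iso A.1 B.1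
      obtain ⟨i₁⟩ := CohDer42.SubMod.quo_congr (show A.1 ≤ A.1 ⊔ (A.1 ⊔ B.1) from le_sup_left)
        (le_sup_left : A.1 ≤ A.1 ⊔ B.1) rfl (sup_eq_right.2 le_sup_left)
      obtain ⟨i₂⟩ := CohDer42.SubMod.quo_congr (show A.1 ⊓ B.1 ≤ A.1 ⊓ B.1 ⊔ B.1 from le_sup_left)
        (inf_le_right : A.1 ⊓ B.1 ≤ B.1) rfl (sup_eq_right.2 inf_le_right)
      exact ⟨i₁ ≪≫ i.symm ≪≫ i₂.symm⟩)
  refine ⟨Fin.equiv_iff_eq.1 ⟨e⟩, ?_⟩
  have w : ∀ i, Nonempty (StabCat.factor (toSub t) (e i) ≅ StabCat.factor (toSub s) i) := fun i => by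
    obtain ⟨j⟩ := he i
    obtain ⟨j₁⟩ := CohDer42.SubMod.quo_congr
      (show (s i.castSucc).1 ≤ (s i.castSucc).1 ⊔ (s i.succ).1 from le_sup_left)
      (show (s i.castSucc).1 ≤ (s i.succ).1 from (s.step i).le) rfl (sup_eq_right.2 (s.step i).le)
    obtain ⟨j₂⟩ := CohDer42.SubMod.quo_congr
      (show (t (e i).castSucc).1 ≤ (t (e i).castSucc).1 ⊔ (t (e i).succ).1 from le_sup_left)
      (show (t (e i).castSucc).1 ≤ (t (e i).succ).1 from (t.step (e i)).le) rfl
      (sup_eq_right.2 (t.step (e i)).le)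
    exact ⟨j₂.symm ≪≫ j.symm ≪≫ j₁⟩
  exact ⟨Sigma.whiskerEquiv e fun i => (w i).some⟩

include hE hL in
/-- Vanishing of homomorphisms between filtered modules. -/
theorem hom_eq_zero_of_hn {G : X.Modules} {hG : Coh.IsCoh G} (hpu : ShStab.IsPure X E d)
    (hGp : ShStab.IsPure X G d) (s : LTSeries (Subobject E)) (hs : ShStab.IsHNFiltration k X L E d s)
    (t : LTSeries (Subobject G)) (ht : ShStab.IsHNFiltration k X L G d t) (i : Fin s.length)
    (hi : i.val + 1 = s.length) (j : Fin t.length) (hj : j.val = 0) (pmin pmax : ℚ[X])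
    (hpmin : ShStab.IsHilbPoly k X L (StabCat.factor s i) pmin)
    (hpmax : ShStab.IsHilbPoly k X L (StabCat.factor t j) pmax)
    (hlt : RedLT d pmax pmin) (φ : E ⟶ G) : φ = 0 := by
  by_contra hφ
  have hd := dim_le_of_pure hpu hE
  have hdG := dim_le_of_pure hGp hG
  obtain ⟨s, rfl⟩ := exists_toSub (hE := hE) s hs.1 fun i => (hs.2.2.1 i).1
  obtain ⟨t, rfl⟩ := exists_toSub (hE := hG) t ht.1 fun i => (ht.2.2.1 i).1
  obtain ⟨a0, a1, a⟩ := (isHN_toSub_iff hL hd s).1 hs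
  obtain ⟨b0, b1, b⟩ := (isHN_toSub_iff hL hdG t).1 ht
  have hK : Coh.IsCoh (kernel φ) := isCoh_ker k φ hE hG
  let I := Abelian.coimage φ
  have hI : Coh.IsCoh I := QC70.isCoh_cokernel _ hK.1 hE
  have hI0 : ¬ IsZero I := fun h => hφ (by
    rw [← Abelian.coimage.fac φ, h.eq_zero_of_tgt (Abelian.coimage.π φ), Limits.zero_comp])
  let K : CS hE := ⟨Subobject.mk (kernel.ι φ), mk_coh _ hK⟩
  have e1 : (hpVal hE k hL hd).q K ⊤ = hp k L I := by
    show hp k L (Subobject.underlying.obj (⊤ : Subobject E)) -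
      hp k L (Subobject.underlying.obj (Subobject.mk (kernel.ι φ))) = _
    rw [hp_top k hE hL, hp_congr k hL.1 (Subobject.underlyingIso _) hK, hp_mono k hL.1 (kernel.ι φ) hK hE,
      add_sub_cancel_left]
  have h1 := a.last_le a0 a1 i hi K
  rw [e1, hpVal_q hE k hL hd (s.step i).le] at h1
  have h2 := b.le_first b0 b1 j hj _ (bot_lt_mk (Abelian.factorThruCoimage φ) hI hI0)
  rw [hpVal_mk hL hdG _ hI, hpVal_q hG k hL hdG (t.step j).le] at h2
  have hαI := alpha_sub_pos (k := k) hL hGp (Abelian.factorThruCoimage φ) hI hI0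
  have hpi := (a.1 i).al_pos
  have hpj := (b.1 j).al_pos
  rw [Val.al, hpVal_q hE k hL hd (s.step i).le] at hpi
  rw [Val.al, hpVal_q hG k hL hdG (t.step j).le] at hpj
  rw [eq_hp k hpmin, eq_hp k hpmax] at hlt
  exact not_redLT_of_redLE (redLE_trans hαI hpi.le hpj.le h1 h2) hlt

section TFAE

omit [AlgebraicGeometry.IsNoetherian X] in
theorem not_isZero_of_alpha_pos {G : X.Modules} (hL : CohB1.IsAmple L)
    (h : 0 < alpha d (hp k L G)) : ¬ IsZero G := fun hz => by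
  rw [hp_eq_zero_of_isZero k hL.1 hz, alpha_zero] at h
  exact lt_irrefl _ h

omit [AlgebraicGeometry.IsNoetherian X] [X.Over (Spec (CommRingCat.of k))]
  [IsProper (X ↘ Spec (CommRingCat.of k))] in
theorem isPure_of_iso {A B : X.Modules} (e : A ≅ B) (h : ShStab.IsPure X A d) : ShStab.IsPure X B d :=
  fun F ι hι hF hF0 => h F (ι ≫ e.inv) (have := hι; mono_comp ι e.inv) hF hF0

omit [AlgebraicGeometry.IsNoetherian X] [X.Over (Spec (CommRingCat.of k))]
  [IsProper (X ↘ Spec (CommRingCat.of k))] in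
theorem nonempty_quo_top_iso {A : Subobject E} :
    Nonempty (CohDer42.SubMod.quo A ⊤ le_top ≅ cokernel A.arrow) :=
  ⟨cokernel.mapIso _ _ (Iso.refl _) (asIso (⊤ : Subobject E).arrow) (by simp)⟩

include hE hL in
/-- A proper submodule either is dominated strictly or is contained in a proper saturated one with
larger reduced polynomial. -/
theorem exists_saturated (hpu : ShStab.IsPure X E d) {F : X.Modules} (ι : F ⟶ E) [Mono ι]
    (hF : Coh.IsCoh F) (hF0 : ¬ IsZero F) (hi : ¬ IsIso ι) :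
    RedLT d (hp k L F) (hp k L E) ∨ ∃ (T : X.Modules) (κ : T ⟶ E), Mono κ ∧ Coh.IsCoh T ∧ ¬ IsZero T ∧
      ¬ IsIso κ ∧ ShStab.IsPure X (cokernel κ) d ∧
      ∃ D : ℚ[X], EvNonneg D ∧
        cross d (hp k L F) (hp k L E) = cross d (hp k L T) (hp k L E) + D := by
  have hd := dim_le_of_pure hpu hE
  have hpv := pure_bot_top (hE := hE) (k := k) hL hd hpu
  let C : CS hE := ⟨Subobject.mk ι, mk_coh ι hF⟩
  have hC : (⊥ : CS hE) < C := bot_lt_mk ι hF hF0
  have hCt : C < (⊤ : CS hE) := mk_lt_top ι hF hi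
  obtain ⟨T, hCT, hT0, hTp⟩ := Val.exists_saturation (v := hpVal hE k hL hd) C
  have e1 : (hpVal hE k hL hd).q ⊥ C = hp k L F := hpVal_mk hL hd ι hF
  rcases eq_or_ne T ⊤ with rfl | hT
  · left
    have := Val.redLT_of_al_le hpv hC hCt
      (by linarith [(hpVal hE k hL hd).al_add ⊥ C ⊤])
    rwa [e1, hpVal_bot_top] at this
  right
  have hTlt : T < (⊤ : CS hE) := lt_top_iff_ne_top.2 hT
  have hTne : T ≠ ⊥ := fun e => hC.not_ge (e ▸ hCT)
  obtain ⟨e⟩ := nonempty_quo_top_iso (A := T.1)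
  refine ⟨_, T.1.arrow, inferInstance, T.2, not_isZero_of_ne_bot hTne, ?_,
    isPure_of_iso e ((isPure_quoCS_iff hE k hL hd hTlt.le).2 hTp),
    -cross d ((hpVal hE k hL hd).q C T) (hp k L E), ?_, ?_⟩
  · intro h
    exact hT (Subtype.ext (Subobject.eq_top_of_isIso_arrow T.1))
  · rcases hCT.eq_or_lt with h | h
    · rw [← h, Val.q_self]
      simpa [cross] using evNonneg_zero
    · refine EvPos.evNonneg ?_
      rw [← cross_swap]
      exact redLT_iff.1 (redLT_of_alpha_eq_zero hT0 ((hpVal hE k hL hd).evPos C T h)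
        (alpha_pure_pos hL hpu hE fun h0 => hF0 (h0.of_mono ι)))
  · rw [← e1, ← hpVal_bot hE k hL hd T, ← (hpVal hE k hL hd).q_add ⊥ C T, cross_add_left]
    abel

omit [AlgebraicGeometry.IsNoetherian X] [X.Over (Spec (CommRingCat.of k))]
  [IsProper (X ↘ Spec (CommRingCat.of k))] in
theorem not_isIso_cokernel_π {F E : X.Modules} (ι : F ⟶ E) [Mono ι] (hF0 : ¬ IsZero F) :
    ¬ IsIso (cokernel.π ι) := fun _ => hF0 (IsZero.of_mono_eq_zero ι (by
  rw [← cancel_mono (cokernel.π ι), cokernel.condition, Limits.zero_comp]))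

omit [AlgebraicGeometry.IsNoetherian X] [X.Over (Spec (CommRingCat.of k))]
  [IsProper (X ↘ Spec (CommRingCat.of k))] in
theorem not_isZero_kernel {G E : X.Modules} (π : E ⟶ G) [Epi π] (hi : ¬ IsIso π) :
    ¬ IsZero (kernel π) := fun hz => hi (have := mono_of_isZero_kernel hz; isIso_of_mono_of_epi π)

include hE hL in
theorem tfae_ss (h0 : ¬ IsZero E) (hpu : ShStab.IsPure X E d) :
    [ShStab.IsSemistable k X L E d,
      ∀ (F : X.Modules) (ι : F ⟶ E), Mono ι → Coh.IsCoh F → ¬ IsZero F → ¬ IsIso ι →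
        ShStab.IsPure X (cokernel ι) d → ∀ (pF pE : ℚ[X]), ShStab.IsHilbPoly k X L F pF →
          ShStab.IsHilbPoly k X L E pE → RedLE d pF pE,
      ∀ (G : X.Modules) (π : E ⟶ G), Epi π → Coh.IsCoh G → ¬ IsIso π → ∀ (pE pG : ℚ[X]),
        ShStab.IsHilbPoly k X L E pE → ShStab.IsHilbPoly k X L G pG → 0 < alpha d pG → RedLE d pE pG,
      ∀ (G : X.Modules) (π : E ⟶ G), Epi π → Coh.IsCoh G → ¬ IsZero G → ¬ IsIso π →
        ShStab.IsPure X G d → ∀ (pE pG : ℚ[X]), ShStab.IsHilbPoly k X L E pE →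
          ShStab.IsHilbPoly k X L G pG → RedLE d pE pG].TFAE := by
  tfae_have 1 → 3 := by
    intro hs G π hπ hG hi pE pG hpE hpG hpos
    rw [eq_hp k hpE, eq_hp k hpG] at *
    exact ss_le_quot hL hs π hG (not_isZero_of_alpha_pos hL hpos)
  tfae_have 3 → 4 := by
    intro h G π hπ hG hG0 hi hGp pE pG hpE hpG
    exact h G π hπ hG hi pE pG hpE hpG (eq_hp k hpG ▸ alpha_pure_pos hL hGp hG hG0)
  tfae_have 4 → 2 := by
    intro h F ι hι hF hF0 hi hQp pF pE hpF hpE
    have hQ := QC70.isCoh_cokernel ι hF.1 hE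
    have := h _ (cokernel.π ι) inferInstance hQ (not_isZero_cokernel hi) (not_isIso_cokernel_π ι hF0) hQp
      _ _ (isHilbPoly_hp k hL.1 hE) (isHilbPoly_hp k hL.1 hQ)
    rw [eq_hp k hpF, eq_hp k hpE]
    rw [hp_mono k hL.1 ι hF hE] at this ⊢
    exact redLE_sub_total_iff.2 (redLE_total_quot_iff.1 this)
  tfae_have 2 → 1 := by
    intro h
    refine ⟨hE, h0, hpu, fun F ι hι hF hF0 hi pF pE hpF hpE => ?_⟩
    rw [eq_hp k hpF, eq_hp k hpE]
    rcases exists_saturated (k := k) (hE := hE) hL hpu ι hF hF0 hi with h' | ⟨T, κ, hκ, hT, hT0, hTi, hTp, D, hD, e⟩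
    · exact redLE_of_redLT h'
    · rw [redLE_iff, e]
      exact (redLE_iff.1 (h T κ hκ hT hT0 hTi hTp _ _ (isHilbPoly_hp k hL.1 hT)
        (isHilbPoly_hp k hL.1 hE))).add hD
  tfae_finish

include hE hL in
theorem tfae_st (h0 : ¬ IsZero E) (hpu : ShStab.IsPure X E d) :
    [ShStab.IsStable k X L E d,
      ∀ (F : X.Modules) (ι : F ⟶ E), Mono ι → Coh.IsCoh F → ¬ IsZero F → ¬ IsIso ι →
        ShStab.IsPure X (cokernel ι) d → ∀ (pF pE : ℚ[X]), ShStab.IsHilbPoly k X L F pF →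
          ShStab.IsHilbPoly k X L E pE → RedLT d pF pE,
      ∀ (G : X.Modules) (π : E ⟶ G), Epi π → Coh.IsCoh G → ¬ IsIso π → ∀ (pE pG : ℚ[X]),
        ShStab.IsHilbPoly k X L E pE → ShStab.IsHilbPoly k X L G pG → 0 < alpha d pG → RedLT d pE pG,
      ∀ (G : X.Modules) (π : E ⟶ G), Epi π → Coh.IsCoh G → ¬ IsZero G → ¬ IsIso π →
        ShStab.IsPure X G d → ∀ (pE pG : ℚ[X]), ShStab.IsHilbPoly k X L E pE →
          ShStab.IsHilbPoly k X L G pG → RedLT d pE pG].TFAE := by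
  tfae_have 1 → 3 := by
    intro hs G π hπ hG hi pE pG hpE hpG hpos
    rw [eq_hp k hpE, eq_hp k hpG] at *
    exact st_lt_quot hL hs π hG (not_isZero_of_alpha_pos hL hpos) (not_isZero_kernel π hi)
  tfae_have 3 → 4 := by
    intro h G π hπ hG hG0 hi hGp pE pG hpE hpG
    exact h G π hπ hG hi pE pG hpE hpG (eq_hp k hpG ▸ alpha_pure_pos hL hGp hG hG0)
  tfae_have 4 → 2 := by
    intro h F ι hι hF hF0 hi hQp pF pE hpF hpE
    have hQ := QC70.isCoh_cokernel ι hF.1 hE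
    have := h _ (cokernel.π ι) inferInstance hQ (not_isZero_cokernel hi) (not_isIso_cokernel_π ι hF0) hQp
      _ _ (isHilbPoly_hp k hL.1 hE) (isHilbPoly_hp k hL.1 hQ)
    rw [eq_hp k hpF, eq_hp k hpE]
    rw [hp_mono k hL.1 ι hF hE] at this ⊢
    exact redLT_sub_total_iff.2 (redLT_total_quot_iff.1 this)
  tfae_have 2 → 1 := by
    intro h
    refine ⟨hE, h0, hpu, fun F ι hι hF hF0 hi pF pE hpF hpE => ?_⟩
    rw [eq_hp k hpF, eq_hp k hpE]
    rcases exists_saturated (k := k) (hE := hE) hL hpu ι hF hF0 hi with h' | ⟨T, κ, hκ, hT, hT0, hTi, hTp, D, hD, e⟩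
    · exact h'
    · rw [redLT_iff, e]
      exact (redLT_iff.1 (h T κ hκ hT hT0 hTi hTp _ _ (isHilbPoly_hp k hL.1 hT)
        (isHilbPoly_hp k hL.1 hE))).add_evNonneg hD
  tfae_finish

end TFAE

end Groth.Agent.HP96
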