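import Groth.Agent.HP96.Poly
import Mathlib.Order.JordanHolder
import Mathlib.Order.RelSeries

/-!
# Harder–Narasimhan and Jordan–Hölder theory in a modular lattice

A modular lattice with ascending chain condition carries a valuation with values in polynomials.
Intervals play the role of subquotients.
-/

set_option autoImplicit false

open Polynomial StabCat

namespace Groth.Agent.HP96

noncomputable section

/-- A polynomial valuation on a lattice, with nonnegative integral multiplicities. -/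
structure Val (Λ : Type*) [Lattice Λ] [BoundedOrder Λ] (d : ℕ) where
  /-- The polynomial of an element. -/
  P : Λ → ℚ[X]
  modular : ∀ a b, P (a ⊔ b) + P (a ⊓ b) = P a + P b
  evPos : ∀ a b, a < b → EvPos (P b - P a)
  nonneg : ∀ a b, a ≤ b → 0 ≤ alpha d (P b - P a)
  int : ∀ a b, ∃ z : ℤ, alpha d (P b - P a) = z

namespace Val

variable {Λ : Type*} [Lattice Λ] [BoundedOrder Λ] {d : ℕ} (v : Val Λ d)

/-- The polynomial of an interval. -/
def q (a b : Λ) : ℚ[X] := v.P b - v.P a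

/-- The multiplicity of an interval. -/
def al (a b : Λ) : ℚ := alpha d (v.q a b)

theorem q_self (a : Λ) : v.q a a = 0 := sub_self _

theorem q_add (a b c : Λ) : v.q a b + v.q b c = v.q a c := by simp [q]

theorem q_inf_eq (a b : Λ) : v.q (a ⊓ b) b = v.q a (a ⊔ b) := by
  simp only [q, sub_eq_sub_iff_add_eq_add]
  rw [v.modular, add_comm]

theorem al_self (a : Λ) : v.al a a = 0 := by simp [al, q_self]

theorem al_add (a b c : Λ) : v.al a b + v.al b c = v.al a c := by
  rw [al, al, al, ← alpha_add, q_add]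

theorem al_nonneg {a b : Λ} (h : a ≤ b) : 0 ≤ v.al a b := v.nonneg a b h

theorem al_eq_floor {a b : Λ} (h : a ≤ b) : v.al a b = (⌊v.al a b⌋₊ : ℚ) := by
  obtain ⟨z, hz⟩ := v.int a b
  have hn := v.al_nonneg h
  change v.al a b = z at hz
  rw [hz] at hn ⊢
  lift z to ℕ using (by exact_mod_cast hn) with n
  simp

/-- Every interval starting at `a` below `b` has positive multiplicity. -/
def Pure (a b : Λ) : Prop := ∀ c, a < c → c ≤ b → 0 < v.al a c

/-- The semistable intervals. -/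
def SS (a b : Λ) : Prop :=
  a < b ∧ v.Pure a b ∧ ∀ c, a < c → c ≤ b → RedLE d (v.q a c) (v.q a b)

/-- The stable intervals. -/
def St (a b : Λ) : Prop :=
  a < b ∧ v.Pure a b ∧ ∀ c, a < c → c < b → RedLT d (v.q a c) (v.q a b)

/-- The maximal destabilising element of an interval. -/
def MaxD (a b F : Λ) : Prop :=
  a < F ∧ F ≤ b ∧ ∀ G, a < G → G ≤ b →
    RedLE d (v.q a G) (v.q a F) ∧ (RedEq d (v.q a G) (v.q a F) → G ≤ F)

variable {v}

theorem cross_nonneg_of_ss {a b c : Λ} (h : v.SS a b) (h₁ : a ≤ c) (h₂ : c ≤ b) :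
    EvNonneg (cross d (v.q a c) (v.q a b)) := by
  rcases h₁.eq_or_lt with rfl | hlt
  · convert evNonneg_zero
    simp [cross, q_self]
  · exact redLE_iff.1 (h.2.2 c hlt h₂)

theorem SS.al_pos {a b : Λ} (h : v.SS a b) : 0 < v.al a b := h.2.1 b h.1 le_rfl

theorem St.al_pos {a b : Λ} (h : v.St a b) : 0 < v.al a b := h.2.1 b h.1 le_rfl

theorem St.ss {a b : Λ} (h : v.St a b) : v.SS a b :=
  ⟨h.1, h.2.1, fun c h₁ h₂ => h₂.eq_or_lt.elim (fun e => e ▸ redLE_refl _ _)
    fun h' => redLE_of_redLT (h.2.2 c h₁ h')⟩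

/-- In a pure interval a proper subinterval of full multiplicity is dominated strictly. -/
theorem redLT_of_al_le {a b c : Λ} (hp : v.Pure a b) (h₁ : a < c) (h₂ : c < b)
    (h : v.al a b ≤ v.al a c) : RedLT d (v.q a c) (v.q a b) := by
  have h0 : v.al c b = 0 := le_antisymm (by linarith [v.al_add a c b]) (v.al_nonneg h₂.le)
  rw [← v.q_add a c b]
  exact redLT_sub_total_iff.2 (redLT_of_alpha_eq_zero h0 (v.evPos c b h₂) (hp c h₁ h₂.le))

theorem MaxD.unique {a b F F' : Λ} (h : v.MaxD a b F) (h' : v.MaxD a b F') : F = F' := by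
  have e := redEq_of_le_of_le (h.2.2 F' h'.1 h'.2.1).1 (h'.2.2 F h.1 h.2.1).1
  exact le_antisymm ((h'.2.2 F h.1 h.2.1).2 (redEq_symm e)) ((h.2.2 F' h'.1 h'.2.1).2 e)

variable [WellFoundedGT Λ]

theorem exists_max {p : Λ → Prop} {a : Λ} (ha : p a) : ∃ m, p m ∧ ∀ x, p x → ¬ m < x :=
  (wellFounded_gt (α := Λ)).has_min {x | p x} ⟨a, ha⟩

omit [WellFoundedGT Λ] in
/-- Extended elements for the destabilisation order: no larger element is at least as big. -/
def IsTop (v : Val Λ d) (a b B : Λ) : Prop :=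
  a < B ∧ B ≤ b ∧ ∀ B', B < B' → B' ≤ b → RedLT d (v.q a B') (v.q a B)

theorem exists_isTop {a b x : Λ} (hp : v.Pure a b) (h₁ : a < x) (h₂ : x ≤ b) :
    ∃ B, x ≤ B ∧ v.IsTop a b B ∧ RedLE d (v.q a x) (v.q a B) := by
  obtain ⟨m, ⟨hxm, hmb, hle⟩, hmax⟩ := exists_max
    (p := fun B => x ≤ B ∧ B ≤ b ∧ RedLE d (v.q a x) (v.q a B)) ⟨le_rfl, h₂, redLE_refl _ _⟩
  have ham := h₁.trans_le hxm
  refine ⟨m, hxm, ⟨ham, hmb, fun B' hm hB' => ?_⟩, hle⟩
  rcases redLT_or_redLE d (v.q a B') (v.q a m) with h | h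
  · exact h
  · exact absurd hm (hmax B' ⟨hxm.trans hm.le, hB',
      redLE_trans (hp m ham hmb) (hp x h₁ h₂).le (hp B' (ham.trans hm) hB').le hle h⟩)

variable [IsModularLattice Λ]

omit [WellFoundedGT Λ] [IsModularLattice Λ] in
theorem cross_sup_inf {a F G : Λ} :
    cross d (v.q a F) (v.q a (F ⊔ G)) + cross d (v.q a F) (v.q a (F ⊓ G)) =
      cross d (v.q a F) (v.q a G) := by
  rw [← cross_add_right, show v.q a (F ⊔ G) + v.q a (F ⊓ G) = v.q a F + v.q a G by
    simp only [q]; linear_combination (norm := abel) v.modular F G]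
  rw [cross_add_right, cross_self, zero_add]

omit [IsModularLattice Λ] in
theorem exists_maxD {a b : Λ} (hab : a < b) (hp : v.Pure a b) : ∃ F, v.MaxD a b F := by
  obtain ⟨B₀, -, hB₀, -⟩ := exists_isTop hp hab le_rfl
  obtain ⟨F, hF, hmin⟩ : ∃ F, v.IsTop a b F ∧ ∀ B, v.IsTop a b B → ¬ ⌊v.al a B⌋₊ < ⌊v.al a F⌋₊ := by
    obtain ⟨F, hF, hmin⟩ := (InvImage.wf (fun B => ⌊v.al a B⌋₊) (wellFounded_lt (α := ℕ))).has_min
      {B | v.IsTop a b B} ⟨B₀, hB₀⟩
    exact ⟨F, hF, hmin⟩
  have hαF := hp F hF.1 hF.2.1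
  have hF_le : ∀ B, v.IsTop a b B → v.al a F ≤ v.al a B := fun B hB => by
    rw [v.al_eq_floor hF.1.le, v.al_eq_floor hB.1.le]
    exact_mod_cast not_lt.1 (hmin B hB)
  have key : ∀ I, a < I → I ≤ F → ¬ RedLT d (v.q a F) (v.q a I) := by
    intro I₀ h₁ h₂ hlt₀
    obtain ⟨I, ⟨haI, hIF, hltI⟩, hImax⟩ := exists_max
      (p := fun J => a < J ∧ J ≤ F ∧ RedLE d (v.q a I₀) (v.q a J))
      ⟨h₁, h₂, redLE_refl _ _⟩
    have hαI := hp I haI (hIF.trans hF.2.1)
    have hαI₀ := hp I₀ h₁ (h₂.trans hF.2.1)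
    have hlt : RedLT d (v.q a F) (v.q a I) := redLT_of_lt_of_le hαI₀ hαF.le hαI hlt₀ hltI
    obtain ⟨B, hIB, hB, hle⟩ := exists_isTop hp haI (hIF.trans hF.2.1)
    have hαB := hp B hB.1 hB.2.1
    have hFB : RedLT d (v.q a F) (v.q a B) := redLT_of_lt_of_le hαI hαF.le hαB hlt hle
    have hBF : ¬ B ≤ F := fun h => by
      rcases h.eq_or_lt with rfl | h
      · exact (redLT_iff.1 hFB).ne_zero (cross_self _ _)
      · exact not_redLT_of_redLE (redLE_of_redLT hFB)
          (redLT_of_al_le (fun c hc hc' => hp c hc (hc'.trans hF.2.1)) hB.1 h (hF_le B hB))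
    set S := F ⊔ B with hS
    have hFS : F < S := lt_of_le_of_ne le_sup_left fun e => hBF (e ▸ le_sup_right)
    have hSb : S ≤ b := sup_le hF.2.1 hB.2.1
    have hSF := redLT_iff.1 (hF.2.2 S hFS hSb)
    set J := F ⊓ B
    have hIJ : I ≤ J := le_inf hIF hIB
    have hJ : RedLT d (v.q a B) (v.q a J) := by
      rw [redLT_iff, ← evPos_smul_iff hαF]
      have hq : v.q a S + v.q a J = v.q a F + v.q a B := by
        simp only [q, S, J]; linear_combination (norm := abel) v.modular F B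
      have hJq : v.q a J = v.q a F + v.q a B - v.q a S := eq_sub_of_add_eq' hq
      have hcr : cross d (v.q a B) (v.q a J) = cross d (v.q a B) (v.q a F) + cross d (v.q a S) (v.q a B) := by
        simp only [hJq, cross, alpha_add, show ∀ x y : ℚ[X], alpha d (x - y) = alpha d x - alpha d y from
          fun x y => by simp [alpha, mul_sub], smul_sub, sub_smul, add_smul, smul_add]
        abel
      have e : v.al a F • cross d (v.q a B) (v.q a J) =
          (v.al a S - v.al a F) • cross d (v.q a F) (v.q a B) + v.al a B • cross d (v.q a S) (v.q a F) := by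
        have h1 := smul_cross d (v.q a S) (v.q a F) (v.q a B)
        rw [hcr, smul_add, cross_swap d (v.q a F) (v.q a B), smul_neg]
        simp only [al] at h1 ⊢
        rw [h1, sub_smul]
        abel
      change EvPos (v.al a F • cross d (v.q a B) (v.q a J))
      rw [e, add_comm]
      refine ((evPos_smul_iff hαB).2 hSF).add_evNonneg ((redLT_iff.1 hFB).evNonneg.smul ?_)
      linarith [v.al_add a F S, v.al_nonneg hFS.le]
    have haJ : a < J := haI.trans_le hIJ
    have hαJ := hp J haJ (inf_le_left.trans hF.2.1)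
    have hIltJ : RedLT d (v.q a I) (v.q a J) := redLT_of_le_of_lt hαB hαI hαJ.le hle hJ
    rcases hIJ.eq_or_lt with e | hlt'
    · exact (redLT_iff.1 (e ▸ hIltJ)).ne_zero (cross_self _ _)
    · exact hImax J ⟨haJ, inf_le_left,
        redLE_trans hαI hαI₀.le hαJ.le hltI (redLE_of_redLT hIltJ)⟩ hlt'
  refine ⟨F, hF.1, hF.2.1, fun G hG hGb => ?_⟩
  have claim : RedLE d (v.q a F) (v.q a G) → ¬ G ≤ F → False := by
    intro h hn
    have hFS : F < F ⊔ G := lt_of_le_of_ne le_sup_left fun e => hn (e ▸ le_sup_right)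
    have h1 := redLT_iff.1 (hF.2.2 _ hFS (sup_le hF.2.1 hGb))
    rw [cross_swap] at h1
    have h2 : EvPos (cross d (v.q a F) (v.q a (F ⊓ G))) := by
      have e := v.cross_sup_inf (a := a) (F := F) (G := G)
      rw [show cross d (v.q a F) (v.q a (F ⊓ G)) =
        -cross d (v.q a F) (v.q a (F ⊔ G)) + cross d (v.q a F) (v.q a G) by rw [← e]; abel]
      exact h1.add_evNonneg (redLE_iff.1 h)
    refine key _ ?_ inf_le_left (redLT_iff.2 h2)
    refine (le_inf hF.1.le hG.le).lt_of_ne fun e => h2.ne_zero ?_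
    rw [← e, q_self]
    simp [cross]
  refine ⟨?_, fun e => by_contra fun hn => claim (redLE_of_redEq (redEq_symm e)) hn⟩
  rcases redLT_or_redLE d (v.q a F) (v.q a G) with h | h
  · by_cases hGF : G ≤ F
    · exact absurd h (key G hG hGF)
    · exact (claim (redLE_of_redLT h) hGF).elim
  · exact h

variable (v) in
omit [WellFoundedGT Λ] [IsModularLattice Λ] in
/-- A Harder–Narasimhan series. -/
def IsHN (s : LTSeries Λ) : Prop :=
  (∀ i : Fin s.length, v.SS (s i.castSucc) (s i.succ)) ∧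
    ∀ i j : Fin s.length, i.val + 1 = j.val →
      RedLT d (v.q (s j.castSucc) (s j.succ)) (v.q (s i.castSucc) (s i.succ))

omit [WellFoundedGT Λ] [IsModularLattice Λ] in
theorem IsHN.lt {s : LTSeries Λ} (hs : v.IsHN s) : ∀ {j i : Fin s.length}, i.val < j.val →
    RedLT d (v.q (s j.castSucc) (s j.succ)) (v.q (s i.castSucc) (s i.succ)) := by
  suffices ∀ (n : ℕ) (j i : Fin s.length), i.val + n + 1 = j.val →
      RedLT d (v.q (s j.castSucc) (s j.succ)) (v.q (s i.castSucc) (s i.succ)) from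
    fun {j i} h => this (j.val - i.val - 1) j i (by omega)
  intro n
  induction n with
  | zero => exact fun j i h => hs.2 i j (by omega)
  | succ n ih =>
    intro j i h
    let m : Fin s.length := ⟨i.val + 1, by omega⟩
    exact redLT_of_lt_of_le (hs.1 m).al_pos (hs.1 j).al_pos.le (hs.1 i).al_pos (ih j m (by simp [m]; omega))
      (redLE_of_redLT (hs.2 i m rfl))

omit [WellFoundedGT Λ] [IsModularLattice Λ] in
/-- In a Harder–Narasimhan series each step is the maximal destabilising one. -/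
theorem IsHN.maxD {s : LTSeries Λ} (hs : v.IsHN s) (i : Fin s.length) :
    v.MaxD (s i.castSucc) s.last (s i.succ) := by
  refine ⟨(hs.1 i).1, s.monotone (Fin.le_last _), fun G hG hGb => ?_⟩
  set a := s i.castSucc
  suffices ∀ (n : ℕ) (hn : i.val + 1 + n < s.length + 1),
      EvNonneg (cross d (v.q a (G ⊓ s ⟨i.val + 1 + n, hn⟩)) (v.q a (s i.succ))) ∧
        (cross d (v.q a (G ⊓ s ⟨i.val + 1 + n, hn⟩)) (v.q a (s i.succ)) = 0 →
          G ⊓ s ⟨i.val + 1 + n, hn⟩ ≤ s i.succ) by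
    obtain ⟨h1, h2⟩ := this (s.length - (i.val + 1)) (by omega)
    have e : G ⊓ s ⟨i.val + 1 + (s.length - (i.val + 1)), by omega⟩ = G := by
      refine inf_eq_left.2 (hGb.trans (le_of_eq ?_))
      exact congrArg s (Fin.ext (show s.length = i.val + 1 + (s.length - (i.val + 1)) by omega))
    rw [e] at h1 h2
    exact ⟨redLE_iff.2 h1, fun h => h2 (redEq_iff.1 h)⟩
  intro n
  induction n with
  | zero =>
    intro hn
    have e : (⟨i.val + 1 + 0, hn⟩ : Fin (s.length + 1)) = i.succ := rfl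
    rw [e]
    exact ⟨cross_nonneg_of_ss (hs.1 i) (le_inf hG.le (s.step i).le) inf_le_right,
      fun _ => inf_le_right⟩
  | succ n ih =>
    intro hn
    obtain ⟨h1, h2⟩ := ih (by omega)
    let j : Fin s.length := ⟨i.val + 1 + n, by omega⟩
    have hj : s j.castSucc = s ⟨i.val + 1 + n, by omega⟩ := rfl
    have hj' : s j.succ = s ⟨i.val + 1 + (n + 1), hn⟩ := congrArg s (Fin.ext (by simp [j]; omega))
    rw [← hj] at h1 h2
    rw [← hj']
    set x := s j.castSucc
    set y := s j.succ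
    have hxy : x ≤ y := (s.step j).le
    have e : v.q (G ⊓ x) (G ⊓ y) = v.q x ((G ⊓ y) ⊔ x) := by
      have h' := v.q_inf_eq x (G ⊓ y)
      rwa [inf_left_comm, inf_eq_left.2 hxy, sup_comm] at h'
    rw [← v.q_add a (G ⊓ x) (G ⊓ y), cross_add_left, e]
    rcases (le_sup_right : x ≤ (G ⊓ y) ⊔ x).eq_or_lt with h0 | h0
    · rw [← h0, q_self, show cross d 0 (v.q a (s i.succ)) = 0 by simp [cross], add_zero]
      exact ⟨h1, fun h => (le_inf inf_le_left (h0 ▸ le_sup_left)).trans (h2 h)⟩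
    · have hle := (hs.1 j).2.2 _ h0 (sup_le inf_le_right hxy)
      have hlt := redLT_iff.1 (redLT_of_le_of_lt (hs.1 j).al_pos ((hs.1 j).2.1 _ h0 (sup_le inf_le_right hxy))
        (hs.1 i).al_pos.le hle (hs.lt (show i.val < j.val by simp [j]; omega)))
      have hpos := hlt.add_evNonneg h1
      rw [add_comm] at hpos
      exact ⟨hpos.evNonneg, fun h => absurd h hpos.ne_zero⟩

omit [WellFoundedGT Λ] in
theorem IsHN.unique {s t : LTSeries Λ} (hs : v.IsHN s) (ht : v.IsHN t) (h0 : s.head = t.head)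
    (h1 : s.last = t.last) : s = t := by
  have key : ∀ n (hn : n < s.length + 1) (hn' : n < t.length + 1), s ⟨n, hn⟩ = t ⟨n, hn'⟩ := by
    intro n
    induction n with
    | zero => exact fun _ _ => h0
    | succ n ih =>
      intro hn hn'
      let i : Fin s.length := ⟨n, by omega⟩
      let j : Fin t.length := ⟨n, by omega⟩
      have e : s i.castSucc = t j.castSucc := ih _ _
      have hi := hs.maxD i
      rw [h1, e] at hi
      exact hi.unique (ht.maxD j)
  have hlen : s.length = t.length := by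
    by_contra hne
    rcases Nat.lt_or_gt_of_ne hne with h | h
    · have e := key s.length (by omega) (by omega)
      have : t ⟨s.length, by omega⟩ < t.last := t.strictMono (Fin.mk_lt_mk.2 h)
      rw [← e] at this
      exact absurd h1 this.ne
    · have e := key t.length (by omega) (by omega)
      have : s ⟨t.length, by omega⟩ < s.last := s.strictMono (Fin.mk_lt_mk.2 h)
      rw [e] at this
      exact absurd h1 this.ne'
  exact RelSeries.ext hlen (funext fun i => key i.val i.isLt (hlen ▸ i.isLt))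

omit [WellFoundedGT Λ] [IsModularLattice Λ] in
/-- Prepending an element. -/
def pcons {a : Λ} (s : LTSeries Λ) (h : a < s.head) : LTSeries Λ where
  length := s.length + 1
  toFun := Fin.cons a s.toFun
  step := fun i => by
    refine Fin.cases ?_ (fun j => ?_) i
    · exact h
    · exact s.step j

omit [IsModularLattice Λ] in
theorem exists_hn (a : Λ) (hp : v.Pure a ⊤) :
    ∃ s : LTSeries Λ, s.head = a ∧ s.last = ⊤ ∧ v.IsHN s ∧
      ∀ i : Fin s.length, i.val = 0 → v.MaxD a ⊤ (s i.succ) := by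
  induction a using WellFoundedGT.induction with
  | ind a ih =>
  rcases eq_or_ne a ⊤ with rfl | ha
  · exact ⟨RelSeries.singleton _ ⊤, rfl, rfl, ⟨fun i => i.elim0, fun i => i.elim0⟩, fun i => i.elim0⟩
  obtain ⟨F, hF⟩ := exists_maxD (lt_top_iff_ne_top.2 ha) hp
  obtain ⟨haF, -, hmax⟩ := hF
  have hpF : v.Pure F ⊤ := fun c hc _ => by
    refine (v.al_nonneg hc.le).lt_of_ne fun e => ?_
    have hT := redLT_of_alpha_eq_zero e.symm (v.evPos F c hc) (hp F haF le_top)
    have hT := redLT_sub_total_iff.2 hT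
    change RedLT d (v.q a F) (v.q a F + v.q F c) at hT
    rw [v.q_add] at hT
    exact not_redLT_of_redLE (hmax c (haF.trans hc) le_top).1 hT
  have hSS : v.SS a F :=
    ⟨haF, fun c hc hc' => hp c hc le_top, fun c hc hc' => (hmax c hc le_top).1⟩
  obtain ⟨t, rfl, htt, htHN, htmax⟩ := ih F haF hpF
  let s := pcons t haF
  have e0 : s.head = a := rfl
  refine ⟨s, e0, htt, ⟨?_, ?_⟩, ?_⟩
  · intro i
    refine Fin.cases ?_ (fun j => ?_) i
    · exact hSS
    · exact htHN.1 j
  · intro i j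
    refine Fin.cases ?_ (fun j' => ?_) j
    · intro h; simp at h
    refine Fin.cases ?_ (fun i' => ?_) i
    · intro h
      have hj0 : j'.val = 0 := by simpa using h.symm
      change RedLT d (v.q (t j'.castSucc) (t j'.succ)) (v.q a t.head)
      have hc : t j'.castSucc = t.head := congrArg t (Fin.ext hj0)
      rw [hc]
      have hlt : t.head < t j'.succ := hc ▸ t.step j'
      obtain ⟨h1, h2⟩ := hmax _ (haF.trans hlt) le_top
      rw [← v.q_add a t.head (t j'.succ)] at h1 h2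
      rw [redLE_iff, cross_add_left, cross_self, zero_add] at h1
      rw [redEq_iff, cross_add_left, cross_self, zero_add] at h2
      exact redLT_iff.2 (h1.evPos_of_ne fun h => hlt.not_ge (h2 h))
    · intro h
      exact htHN.2 i' j' (by simp at h ⊢; omega)
  · intro i
    refine Fin.cases (fun _ => ?_) (fun j h => ?_) i
    · exact ⟨haF, le_top, hmax⟩
    · simp at h

omit [WellFoundedGT Λ] in
/-- Every proper quotient dominates the last step. -/
theorem IsHN.last_le {s : LTSeries Λ} (hs : v.IsHN s) (h0 : s.head = ⊥) (h1 : s.last = ⊤)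
    (l : Fin s.length) (hl : l.val + 1 = s.length) (K : Λ) :
    RedLE d (v.q (s l.castSucc) (s l.succ)) (v.q K ⊤) := by
  rw [redLE_iff]
  set p := v.q (s l.castSucc) (s l.succ)
  suffices ∀ (n : ℕ) (hn : n < s.length + 1), EvNonneg (cross d p (v.q K (K ⊔ s ⟨n, hn⟩))) by
    have := this s.length (by omega)
    rwa [show s ⟨s.length, _⟩ = s.last from rfl, h1, sup_top_eq] at this
  intro n
  induction n with
  | zero =>
    intro hn
    rw [show s ⟨0, hn⟩ = s.head from rfl, h0, sup_bot_eq, q_self]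
    simpa [cross] using evNonneg_zero
  | succ n ih =>
    intro hn
    let j : Fin s.length := ⟨n, by omega⟩
    set x := s j.castSucc
    set y := s j.succ
    have hxy : x ≤ y := (s.step j).le
    rw [show s ⟨n + 1, hn⟩ = y from rfl, ← v.q_add K (K ⊔ x) (K ⊔ y), cross_add_right]
    refine (ih (by omega)).add ?_
    have e : v.q (K ⊔ x) (K ⊔ y) = v.q ((K ⊔ x) ⊓ y) y := by
      rw [v.q_inf_eq, sup_assoc, sup_eq_right.2 hxy]
    rw [e]
    set c := (K ⊔ x) ⊓ y
    have hxc : x ≤ c := le_inf le_sup_right hxy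
    have hcy : c ≤ y := inf_le_right
    have h2 : RedLE d (v.q x y) (v.q c y) := by
      rw [← v.q_add x c y, redLE_total_quot_iff, ← redLE_sub_total_iff, v.q_add, redLE_iff]
      exact cross_nonneg_of_ss (hs.1 j) hxc hcy
    rcases Nat.lt_or_ge j.val l.val with h | h
    · exact redLE_iff.1 (redLE_trans (hs.1 j).al_pos (hs.1 l).al_pos.le (v.al_nonneg hcy)
        (redLE_of_redLT (hs.lt h)) h2)
    · have hjl : j = l := Fin.ext (by have := j.isLt; omega)
      have hp' : v.q x y = p := by simp only [x, y, p, hjl]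
      exact hp' ▸ redLE_iff.1 h2

omit [WellFoundedGT Λ] [IsModularLattice Λ] in
/-- Every element is dominated by the first step. -/
theorem IsHN.le_first {s : LTSeries Λ} (hs : v.IsHN s) (h0 : s.head = ⊥) (h1 : s.last = ⊤)
    (f : Fin s.length) (hf : f.val = 0) (G : Λ) (hG : ⊥ < G) :
    RedLE d (v.q ⊥ G) (v.q (s f.castSucc) (s f.succ)) := by
  have e : s f.castSucc = ⊥ := (congrArg s (Fin.ext hf)).trans h0
  have := ((hs.maxD f).2.2 G (e ▸ hG) (h1 ▸ le_top)).1
  rwa [e] at this ⊢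

/-! ### Jordan–Hölder -/

variable (v) in
omit [WellFoundedGT Λ] [IsModularLattice Λ] in
/-- Elements with the reduced polynomial of the top (or bottom). -/
def Good (a : Λ) : Prop := cross d (v.q ⊥ a) (v.q ⊥ ⊤) = 0

omit [WellFoundedGT Λ] [IsModularLattice Λ] in
theorem good_bot : v.Good ⊥ := by simp [Good, q_self, cross]

omit [WellFoundedGT Λ] [IsModularLattice Λ] in
theorem good_top : v.Good ⊤ := cross_self _ _

omit [WellFoundedGT Λ] [IsModularLattice Λ] in
theorem good_sup_inf (h : v.SS ⊥ ⊤) {a b : Λ} (ha : v.Good a) (hb : v.Good b) :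
    v.Good (a ⊔ b) ∧ v.Good (a ⊓ b) := by
  have hs := cross_nonneg_of_ss h (bot_le : (⊥ : Λ) ≤ a ⊔ b) le_top
  have hi := cross_nonneg_of_ss h (bot_le : (⊥ : Λ) ≤ a ⊓ b) le_top
  have e : cross d (v.q ⊥ (a ⊔ b)) (v.q ⊥ ⊤) + cross d (v.q ⊥ (a ⊓ b)) (v.q ⊥ ⊤) = 0 := by
    rw [← cross_add_left, show v.q ⊥ (a ⊔ b) + v.q ⊥ (a ⊓ b) = v.q ⊥ a + v.q ⊥ b by
      simp only [q]; linear_combination (norm := abel) v.modular a b, cross_add_left, ha, hb, add_zero]
  have h1 : cross d (v.q ⊥ (a ⊔ b)) (v.q ⊥ ⊤) = 0 := by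
    refine eq_zero_of_evNonneg_neg hs ?_
    rw [neg_eq_of_add_eq_zero_right e]
    exact hi
  exact ⟨h1, by rwa [h1, zero_add] at e⟩

omit [IsModularLattice Λ] in
theorem exists_jh (h : v.SS ⊥ ⊤) (a : Λ) (ha : v.Good a) :
    ∃ s : LTSeries Λ, s.head = a ∧ s.last = ⊤ ∧ ∀ i : Fin s.length,
      v.St (s i.castSucc) (s i.succ) ∧ RedEq d (v.q (s i.castSucc) (s i.succ)) (v.q ⊥ ⊤) := by
  induction a using WellFoundedGT.induction with
  | ind a ih =>
  rcases eq_or_ne a ⊤ with rfl | hne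
  · exact ⟨RelSeries.singleton _ ⊤, rfl, rfl, fun i => i.elim0⟩
  obtain ⟨c, ⟨hac, hc⟩, hmin⟩ := (InvImage.wf (fun B => ⌊v.al ⊥ B⌋₊) (wellFounded_lt (α := ℕ))).has_min
    {x | a < x ∧ v.Good x} ⟨⊤, lt_top_iff_ne_top.2 hne, good_top⟩
  have hp := h.al_pos
  have hpiece : ∀ e, a ≤ e → cross d (v.q a e) (v.q ⊥ ⊤) = cross d (v.q ⊥ e) (v.q ⊥ ⊤) := fun e _ => by
    rw [← v.q_add ⊥ a e, cross_add_left, ha, zero_add]
  have hle : ∀ e, a < e → EvNonneg (cross d (v.q a e) (v.q ⊥ ⊤)) := fun e he => by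
    rw [hpiece e he.le]; exact cross_nonneg_of_ss h bot_le le_top
  have hpure : v.Pure a c := fun e he _ => by
    refine (v.al_nonneg he.le).lt_of_ne fun h0 => ?_
    have := redLT_iff.1 (redLT_of_alpha_eq_zero (Q := v.q ⊥ ⊤) h0.symm (v.evPos a e he) hp)
    rw [cross_swap] at this
    exact not_evPos_neg (hle e he) this
  have hac0 : cross d (v.q a c) (v.q ⊥ ⊤) = 0 := by rw [hpiece c hac.le]; exact hc
  have hSt : v.St a c := by
    refine ⟨hac, hpure, fun e he hec => ?_⟩
    rw [redLT_iff, ← evPos_smul_iff hp]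
    change EvPos (alpha d (v.q ⊥ ⊤) • cross d (v.q a e) (v.q a c))
    rw [smul_cross, cross_swap d (v.q a c) (v.q ⊥ ⊤), hac0, neg_zero, smul_zero, add_zero]
    refine (evPos_smul_iff (hpure c hac le_rfl)).2 ((hle e he).evPos_of_ne fun h0 => ?_)
    have hge : v.Good e := by rw [Good, ← hpiece e he.le, h0]
    refine hmin e ⟨he, hge⟩ ?_
    change ⌊v.al ⊥ e⌋₊ < ⌊v.al ⊥ c⌋₊
    have hlt : v.al ⊥ e < v.al ⊥ c := by
      refine lt_of_not_ge fun hge' => ?_
      have hz : v.al e c = 0 := le_antisymm (by linarith [v.al_add ⊥ e c]) (v.al_nonneg hec.le)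
      have h2 : cross d (v.q e c) (v.q ⊥ ⊤) = 0 := by
        have := hc
        rw [Good, ← v.q_add ⊥ e c, cross_add_left, hge, zero_add] at this
        exact this
      have h3 := redLT_iff.1 (redLT_of_alpha_eq_zero (Q := v.q ⊥ ⊤) hz (v.evPos e c hec) hp)
      rw [cross_swap] at h3
      exact h3.ne_zero (neg_eq_zero.2 h2)
    have h4 : (⌊v.al ⊥ e⌋₊ : ℚ) < (⌊v.al ⊥ c⌋₊ : ℚ) := by
      rw [← v.al_eq_floor bot_le, ← v.al_eq_floor bot_le]
      exact hlt
    exact_mod_cast h4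
  obtain ⟨t, rfl, htt, ht⟩ := ih c hac hc
  refine ⟨pcons t hac, rfl, htt, fun i => ?_⟩
  refine Fin.cases ?_ (fun j => ?_) i
  · exact ⟨hSt, redEq_iff.2 hac0⟩
  · exact ht j

/-- The subtype of good elements. -/
abbrev GoodSub (v : Val Λ d) : Type _ := {a : Λ // v.Good a}

omit [WellFoundedGT Λ] in
/-- Jordan–Hölder: any two series of stable pieces of the same reduced polynomial correspond. -/
theorem jh_equiv (h : v.SS ⊥ ⊤) {s t : LTSeries Λ} (hs0 : s.head = ⊥) (hs1 : s.last = ⊤)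
    (ht0 : t.head = ⊥) (ht1 : t.last = ⊤)
    (hs : ∀ i : Fin s.length, v.St (s i.castSucc) (s i.succ) ∧
      RedEq d (v.q (s i.castSucc) (s i.succ)) (v.q ⊥ ⊤))
    (ht : ∀ i : Fin t.length, v.St (t i.castSucc) (t i.succ) ∧
      RedEq d (v.q (t i.castSucc) (t i.succ)) (v.q ⊥ ⊤))
    (R : Λ × Λ → Λ × Λ → Prop) (hR : ∀ x, R x x) (hRs : ∀ {x y}, R x y → R y x)
    (hRt : ∀ {x y z}, R x y → R y z → R x z)
    (hR2 : ∀ a b : Λ, R (a, a ⊔ b) (a ⊓ b, b)) :
    ∃ e : Fin s.length ≃ Fin t.length, ∀ i,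
      R (s i.castSucc, s i.succ) (t (e i).castSucc, t (e i).succ) := by
  let : Lattice (GoodSub v) := Subtype.lattice (fun _ _ ha hb => (good_sup_inf h ha hb).1)
    (fun _ _ ha hb => (good_sup_inf h ha hb).2)
  have : IsModularLattice (GoodSub v) :=
    ⟨fun {x} y {z} hxz => show (x.1 ⊔ y.1) ⊓ z.1 ≤ x.1 ⊔ y.1 ⊓ z.1 from
      IsModularLattice.sup_inf_le_assoc_of_le y.1 hxz⟩
  have good : ∀ (u : LTSeries Λ), u.head = ⊥ → (∀ i : Fin u.length,
      v.St (u i.castSucc) (u i.succ) ∧ RedEq d (v.q (u i.castSucc) (u i.succ)) (v.q ⊥ ⊤)) →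
      ∀ i, v.Good (u i) := by
    intro u hu0 hu i
    induction i using Fin.induction with
    | zero => rw [show u 0 = (⊥ : Λ) from hu0]; exact good_bot
    | succ i ih =>
      rw [Good, ← v.q_add ⊥ (u i.castSucc) (u i.succ), cross_add_left, ih, zero_add]
      exact redEq_iff.1 (hu i).2
  have mk : ∀ (u : LTSeries Λ) (hu0 : u.head = ⊥) (hu : ∀ i : Fin u.length,
      v.St (u i.castSucc) (u i.succ) ∧ RedEq d (v.q (u i.castSucc) (u i.succ)) (v.q ⊥ ⊤))
      (i : Fin u.length), (⟨u i.castSucc, good u hu0 hu _⟩ : GoodSub v) ⋖ ⟨u i.succ, good u hu0 hu _⟩ := by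
    intro u hu0 hu i
    refine ⟨u.step i, fun e (hae : u i.castSucc < e.1) (heb : e.1 < u i.succ) => ?_⟩
    have h1 := redLT_iff.1 ((hu i).1.2.2 e.1 hae heb)
    rw [← evPos_smul_iff h.al_pos] at h1
    refine h1.ne_zero ?_
    change alpha d (v.q ⊥ ⊤) • _ = 0
    have h2 : cross d (v.q (u i.castSucc) e.1) (v.q ⊥ ⊤) = 0 := by
      have := e.2
      rwa [Good, ← v.q_add ⊥ (u i.castSucc) e.1, cross_add_left, good u hu0 hu _, zero_add] at this
    rw [smul_cross, h2, cross_swap d (v.q (u i.castSucc) (u i.succ)) (v.q ⊥ ⊤), redEq_iff.1 (hu i).2,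
      neg_zero, smul_zero, smul_zero, add_zero]
  let S : CompositionSeries (GoodSub v) :=
    ⟨s.length, fun i => ⟨s i, good s hs0 hs i⟩, fun i => mk s hs0 hs i⟩
  let T : CompositionSeries (GoodSub v) :=
    ⟨t.length, fun i => ⟨t i, good t ht0 ht i⟩, fun i => mk t ht0 ht i⟩
  obtain ⟨e, he⟩ := CompositionSeries.jordan_holder S T (Subtype.ext (hs0.trans ht0.symm))
    (Subtype.ext (hs1.trans ht1.symm))
  refine ⟨e, fun i => ?_⟩
  let R' : GoodSub v × GoodSub v → GoodSub v × GoodSub v → Prop :=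
    fun p p' => R (p.1.1, p.1.1 ⊔ p.2.1) (p'.1.1, p'.1.1 ⊔ p'.2.1)
  have key := JordanHolderLattice.Iso.rel R' (fun {x} => hR _) hRs hRt (fun {x y} _ => ?_) (he i)
  · change R (s i.castSucc, s i.castSucc ⊔ s i.succ) (t (e i).castSucc, t (e i).castSucc ⊔ t (e i).succ) at key
    rwa [sup_eq_right.2 (s.step i).le, sup_eq_right.2 (t.step (e i)).le] at key
  · change R (x.1, x.1 ⊔ (x.1 ⊔ y.1)) (x.1 ⊓ y.1, (x.1 ⊓ y.1) ⊔ y.1)
    rw [← sup_assoc, sup_idem, sup_eq_right.2 (inf_le_right : x.1 ⊓ y.1 ≤ y.1)]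
    exact hR2 x.1 y.1

omit [IsModularLattice Λ] in
/-- The saturation: a largest element above `a` with the same multiplicity. -/
theorem exists_saturation (a : Λ) : ∃ t, a ≤ t ∧ v.al a t = 0 ∧ v.Pure t ⊤ := by
  obtain ⟨t, ⟨hat, ht⟩, hmax⟩ := exists_max (p := fun x => a ≤ x ∧ v.al a x = 0) ⟨le_rfl, v.al_self a⟩
  refine ⟨t, hat, ht, fun c hc _ => (v.al_nonneg hc.le).lt_of_ne fun e => hmax c ⟨hat.trans hc.le, ?_⟩ hc⟩
  rw [← v.al_add a t c, ht, ← e, add_zero]

end Val

end

end Groth.Agent.HP96
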