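import Groth.Agent.HP96.Stab
import Groth.Agent.HP96.Lat
import Groth.Agent.CohDer42.SubMod
import Groth.Agent.QC70.Inf

/-!
# The lattice of coherent submodules with its Hilbert polynomial valuation
-/

set_option autoImplicit false
set_option backward.isDefEq.respectTransparency.types false
universe u

open CategoryTheory CategoryTheory.Limits AlgebraicGeometry Polynomial StabCat

noncomputable section

namespace Groth.Agent.HP96

open Groth.Agent.CohDer42 (SubMod.quo)

variable {X : Scheme.{u}} [AlgebraicGeometry.IsNoetherian X] {E : X.Modules}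

theorem isCoh_mk_arrow {A : Subobject E} (h : Coh.IsCoh (Subobject.underlying.obj A)) :
    Coh.IsQCoh (Subobject.underlying.obj A) := h.1

theorem isCoh_inf (hE : Coh.IsCoh E) {A B : Subobject E} (hA : Coh.IsCoh (Subobject.underlying.obj A))
    (hB : Coh.IsCoh (Subobject.underlying.obj B)) : Coh.IsCoh (Subobject.underlying.obj (A ⊓ B)) := by
  have := hA.1; have := hB.1; have := hE.1
  refine QC70.isCoh_of_mono (A ⊓ B).arrow ?_ hE
  have h := QC70.isQuasicoherent_inf (f := A.arrow) (g := B.arrow)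
  rw [Subobject.mk_arrow, Subobject.mk_arrow] at h
  exact h

theorem isCoh_sup (hE : Coh.IsCoh E) {A B : Subobject E} (hA : Coh.IsCoh (Subobject.underlying.obj A))
    (hB : Coh.IsCoh (Subobject.underlying.obj B)) : Coh.IsCoh (Subobject.underlying.obj (A ⊔ B)) := by
  have := CohDer42.SubMod.epi_biprod_to_sup A B
  let e := biprod.desc (Subobject.ofLE A (A ⊔ B) le_sup_left) (Subobject.ofLE B (A ⊔ B) le_sup_right)
  have hb : Coh.IsCoh ((Subobject.underlying.obj A) ⊞ (Subobject.underlying.obj B)) :=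
    QC70.isCoh_X₂ (ShortComplex.mk (biprod.inl : (Subobject.underlying.obj A) ⟶
        (Subobject.underlying.obj A) ⊞ (Subobject.underlying.obj B)) biprod.snd (by simp))
      (ShortComplex.Splitting.shortExact
        { r := biprod.fst, s := biprod.inr, f_r := by simp, s_g := by simp, id := biprod.total }) hA hB
  have hk : Coh.IsCoh (kernel e) :=
    QC70.isCoh_of_iso (kernelCompMono e (A ⊔ B).arrow) (QC70.isCoh_kernel _ hb hE.1)
  exact QC70.isCoh_of_iso (asIso (Abelian.factorThruCoimage e)) (QC70.isCoh_cokernel _ hk.1 hb)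

theorem isCoh_bot : Coh.IsCoh (Subobject.underlying.obj (⊥ : Subobject E)) :=
  QC70.isCoh_of_isZero (IsZero.of_iso (isZero_zero _) Subobject.botCoeIsoZero)

theorem isCoh_top (hE : Coh.IsCoh E) : Coh.IsCoh (Subobject.underlying.obj (⊤ : Subobject E)) :=
  QC70.isCoh_of_iso (asIso (⊤ : Subobject E).arrow).symm hE

/-- The lattice of coherent submodules. -/
def CS (_hE : Coh.IsCoh E) : Type (u + 1) := CohSub E

variable (hE : Coh.IsCoh E)

instance : Lattice (CS hE) :=
  Subtype.lattice (fun _ _ ha hb => isCoh_sup hE ha hb) (fun _ _ ha hb => isCoh_inf hE ha hb)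

instance : BoundedOrder (CS hE) where
  top := ⟨⊤, isCoh_top hE⟩
  le_top A := show A.1 ≤ ⊤ from le_top
  bot := ⟨⊥, isCoh_bot⟩
  bot_le A := show ⊥ ≤ A.1 from bot_le

instance : IsModularLattice (CS hE) :=
  ⟨fun {x} y {z} hxz => show (x.1 ⊔ y.1) ⊓ z.1 ≤ x.1 ⊔ y.1 ⊓ z.1 from
    IsModularLattice.sup_inf_le_assoc_of_le y.1 hxz⟩

instance : WellFoundedGT (CS hE) := wellFoundedGT_cohSub hE

/-- The subquotient of an interval. -/
abbrev quoCS {hE : Coh.IsCoh E} {A B : CS hE} (h : A ≤ B) : X.Modules :=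
  CohDer42.SubMod.quo A.1 B.1 h

theorem isCoh_quoCS {hE : Coh.IsCoh E} {A B : CS hE} (h : A ≤ B) : Coh.IsCoh (quoCS h) :=
  QC70.isCoh_cokernel _ A.2.1 B.2

variable (k : Type u) [Field k] [X.Over (Spec (CommRingCat.of k))]
  [IsProper (X ↘ Spec (CommRingCat.of k))] {L : X.Modules} (hL : CohB1.IsAmple L) {d : ℕ}
  (hd : topologicalKrullDim (CohB1.support E) ≤ (d : WithBot ℕ∞))

omit [AlgebraicGeometry.IsNoetherian X] in
include hL in
theorem hp_quo {A B : Subobject E} (h : A ≤ B) (hA : Coh.IsCoh (Subobject.underlying.obj A))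
    (hB : Coh.IsCoh (Subobject.underlying.obj B)) :
    hp k L (SubMod.quo A B h) = hp k L (Subobject.underlying.obj B) - hp k L (Subobject.underlying.obj A) :=
  eq_sub_of_add_eq' (hp_mono k hL.1 (Subobject.ofLE A B h) hA hB).symm

omit [AlgebraicGeometry.IsNoetherian X] in
include hd in
theorem dim_quo_le {A B : Subobject E} (h : A ≤ B) :
    topologicalKrullDim (CohB1.support (SubMod.quo A B h)) ≤ (d : WithBot ℕ∞) :=
  ((dim_quot_le (cokernel.π (Subobject.ofLE A B h))).trans (dim_sub_le B.arrow)).trans hd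

/-- The Hilbert polynomial valuation. -/
def hpVal : Val (CS hE) d where
  P A := hp k L (Subobject.underlying.obj A.1)
  modular A B := by
    have hi := isCoh_inf hE A.2 B.2
    have hs := isCoh_sup hE A.2 B.2
    obtain ⟨e⟩ := CohDer42.SubMod.second_iso A.1 B.1
    have h1 := hp_quo k hL (inf_le_right : A.1 ⊓ B.1 ≤ B.1) hi B.2
    have h2 := hp_quo k hL (le_sup_left : A.1 ≤ A.1 ⊔ B.1) A.2 hs
    rw [hp_congr k hL.1 e (QC70.isCoh_cokernel _ A.2.1 hs), h2] at h1
    change hp k L (Subobject.underlying.obj (A.1 ⊔ B.1)) + hp k L (Subobject.underlying.obj (A.1 ⊓ B.1)) =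
      hp k L (Subobject.underlying.obj A.1) + hp k L (Subobject.underlying.obj B.1)
    linear_combination (norm := abel) h1
  evPos A B h := by
    rw [← hp_quo k hL (show A.1 ≤ B.1 from h.le) A.2 B.2]
    exact evPos_hp k hL (QC70.isCoh_cokernel _ A.2.1 B.2)
      fun hz => h.ne (Subtype.ext ((CohDer42.SubMod.isZero_quo_iff _).1 hz))
  nonneg A B h := by
    rw [← hp_quo k hL (show A.1 ≤ B.1 from h) A.2 B.2]
    exact alpha_nonneg k hL (QC70.isCoh_cokernel _ A.2.1 B.2) (dim_quo_le hd h)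
  int A B := by
    obtain ⟨a, ha⟩ := exists_int_alpha_hp k hL.1 A.2 ((dim_sub_le A.1.arrow).trans hd)
    obtain ⟨b, hb⟩ := exists_int_alpha_hp k hL.1 B.2 ((dim_sub_le B.1.arrow).trans hd)
    refine ⟨b - a, ?_⟩
    simp only [StabCat.alpha] at ha hb ⊢
    push_cast
    rw [coeff_sub, mul_sub, ha, hb]

theorem hpVal_q {A B : CS hE} (h : A ≤ B) :
    (hpVal hE k hL hd).q A B = hp k L (quoCS h) :=
  (hp_quo k hL h A.2 B.2).symm

omit [AlgebraicGeometry.IsNoetherian X] in
theorem hp_top (hE : Coh.IsCoh E) (hL : CohB1.IsAmple L) :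
    hp k L (Subobject.underlying.obj (⊤ : Subobject E)) = hp k L E :=
  hp_congr k hL.1 (asIso (⊤ : Subobject E).arrow) hE

omit [AlgebraicGeometry.IsNoetherian X] in
theorem hp_bot (hL : CohB1.IsAmple L) : hp k L (Subobject.underlying.obj (⊥ : Subobject E)) = 0 :=
  hp_eq_zero_of_isZero k hL.1 (IsZero.of_iso (isZero_zero _) Subobject.botCoeIsoZero)

theorem hpVal_bot_top : (hpVal hE k hL hd).q ⊥ ⊤ = hp k L E := by
  change hp k L (Subobject.underlying.obj (⊤ : Subobject E)) -
    hp k L (Subobject.underlying.obj (⊥ : Subobject E)) = _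
  rw [hp_top k hE hL, hp_bot k hL, sub_zero]

theorem hpVal_bot (A : CS hE) :
    (hpVal hE k hL hd).q ⊥ A = hp k L (Subobject.underlying.obj A.1) := by
  change hp k L (Subobject.underlying.obj A.1) - hp k L (Subobject.underlying.obj (⊥ : Subobject E)) = _
  rw [hp_bot k hL, sub_zero]

theorem hpVal_top {K : CS hE} : (hpVal hE k hL hd).q K ⊤ = hp k L (cokernel K.1.arrow) := by
  change hp k L (Subobject.underlying.obj (⊤ : Subobject E)) - hp k L (Subobject.underlying.obj K.1) = _
  rw [hp_top k hE hL, hp_mono k hL.1 K.1.arrow K.2 hE, add_sub_cancel_left]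

include hE hd in
/-- Submodules of a subquotient come from intermediate submodules. -/
theorem exists_sub_of_quo {A B : CS hE} (hAB : A ≤ B) {F : X.Modules} (j : F ⟶ quoCS hAB) [Mono j]
    (hF : Coh.IsCoh F) :
    ∃ C : CS hE, A ≤ C ∧ C ≤ B ∧ hp k L F = (hpVal hE k hL hd).q A C ∧ (C = B → IsIso j) := by
  let π := cokernel.π (Subobject.ofLE A.1 B.1 hAB)
  let c := π ≫ cokernel.π j
  have hQ := isCoh_quoCS hAB
  have hJ : Coh.IsCoh (cokernel j) := QC70.isCoh_cokernel j hF.1 hQ
  have hP : Coh.IsCoh (kernel c) := isCoh_ker k c B.2 hJ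
  let C : CS hE := ⟨Subobject.mk (kernel.ι c ≫ B.1.arrow), mk_coh _ hP⟩
  have hAC : A ≤ C := by
    refine Subobject.le_mk_of_comm (kernel.lift c (Subobject.ofLE A.1 B.1 hAB) ?_) ?_
    · change _ ≫ π ≫ _ = 0
      rw [← Category.assoc, cokernel.condition, Limits.zero_comp]
    · rw [← Category.assoc, kernel.lift_ι, Subobject.ofLE_arrow]
  have hCB : C ≤ B := Subobject.mk_le_of_comm (kernel.ι c) rfl
  have hC : hp k L (Subobject.underlying.obj C.1) = hp k L (kernel c) :=
    hp_congr k hL.1 (Subobject.underlyingIso _) hP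
  have : Epi c := epi_comp π (cokernel.π j)
  have e1 := hp_epi k hL.1 c B.2 hJ
  have e2 := hp_mono k hL.1 j hF hQ
  rw [hp_quo k hL (show A.1 ≤ B.1 from hAB) A.2 B.2] at e2
  refine ⟨C, hAC, hCB, ?_, fun h => ?_⟩
  · change _ = hp k L (Subobject.underlying.obj C.1) - hp k L (Subobject.underlying.obj A.1)
    rw [hC]
    linear_combination (norm := abel) e1 - e2
  · refine isIso_of_hp_eq (k := k) hL hF hQ j ?_ (Or.inl ‹_›)
    have h' : hp k L (Subobject.underlying.obj B.1) = hp k L (kernel c) :=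
      (congrArg (fun D : CS hE => hp k L (Subobject.underlying.obj D.1)) h.symm).trans hC
    rw [hp_quo k hL (show A.1 ≤ B.1 from hAB) A.2 B.2]
    linear_combination (norm := abel) e1 - e2 - h'

omit [AlgebraicGeometry.IsNoetherian X] [X.Over (Spec (CommRingCat.of k))]
  [IsProper (X ↘ Spec (CommRingCat.of k))] in
/-- An intermediate submodule gives a submodule of the subquotient. -/
theorem exists_quo_of_sub {a b c : Subobject E} (hac : a ≤ c) (hcb : c ≤ b) :
    ∃ j : SubMod.quo a c hac ⟶ SubMod.quo a b (hac.trans hcb), Mono j := by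
  let j : SubMod.quo a c hac ⟶ SubMod.quo a b (hac.trans hcb) :=
    cokernel.map _ _ (𝟙 _) (Subobject.ofLE c b hcb) (by rw [Category.id_comp, Subobject.ofLE_comp_ofLE])
  refine ⟨j, (Preadditive.mono_iff_cancel_zero j).2 fun T g hg => ?_⟩
  obtain ⟨T', p, hp', t, ht⟩ := surjective_up_to_refinements_of_epi
    (cokernel.π (Subobject.ofLE a c hac)) g
  have hπ : cokernel.π (Subobject.ofLE a c hac) ≫ j =
      Subobject.ofLE c b hcb ≫ cokernel.π _ := cokernel.π_desc _ _ _
  rw [← cancel_epi p, Limits.comp_zero, ht]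
  have h0 : (t ≫ Subobject.ofLE c b hcb) ≫ cokernel.π (Subobject.ofLE a b (hac.trans hcb)) = 0 := by
    rw [Category.assoc, ← hπ, ← Category.assoc, ← ht, Category.assoc, hg, Limits.comp_zero]
  have he : Abelian.monoLift _ _ h0 ≫ Subobject.ofLE a c hac = t := by
    rw [← cancel_mono (Subobject.ofLE c b hcb), Category.assoc, Subobject.ofLE_comp_ofLE]
    exact Abelian.monoLift_comp _ _ h0
  rw [← he, Category.assoc, cokernel.condition, Limits.comp_zero]

theorem isZero_quoCS_iff {A B : CS hE} (h : A ≤ B) : IsZero (quoCS h) ↔ A = B :=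
  (CohDer42.SubMod.isZero_quo_iff _).trans ⟨fun e => Subtype.ext e, fun e => congrArg Subtype.val e⟩

include hL hd in
/-- Purity of a subquotient. -/
theorem isPure_quoCS_iff {A B : CS hE} (h : A ≤ B) :
    ShStab.IsPure X (quoCS h) d ↔ (hpVal hE k hL hd).Pure A B := by
  constructor
  · intro hp c hac hcb
    obtain ⟨j, hj⟩ := exists_quo_of_sub (E := E) (show A.1 ≤ c.1 from hac.le) (show c.1 ≤ B.1 from hcb)
    have hc := isCoh_quoCS hac.le
    rw [Val.al, hpVal_q hE k hL hd hac.le]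
    exact alpha_sub_pos hL hp j hc fun hz => hac.ne ((isZero_quoCS_iff hE hac.le).1 hz)
  · intro hp F ι hι hF hF0
    obtain ⟨C, hAC, hCB, hq, -⟩ := exists_sub_of_quo hE k hL hd h ι hF
    have hne : A ≠ C := fun e => hF0 ((isZero_iff_hp_eq_zero k hL hF).2 (by rw [hq, e, Val.q_self]))
    have hpos := hp C (hAC.lt_of_ne hne) hCB
    rw [Val.al, ← hq] at hpos
    exact (alpha_pos_iff k hL hF ((dim_sub_le ι).trans (dim_quo_le hd h))).1 hpos

include hL hd in
/-- Semistability of a subquotient. -/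
theorem isSemistable_quoCS_iff {A B : CS hE} (h : A ≤ B) :
    ShStab.IsSemistable k X L (quoCS h) d ↔ (hpVal hE k hL hd).SS A B := by
  constructor
  · intro hs
    have hne : A ≠ B := fun e => hs.2.1 ((isZero_quoCS_iff hE h).2 e)
    refine ⟨h.lt_of_ne hne, (isPure_quoCS_iff hE k hL hd h).1 hs.2.2.1, fun c hac hcb => ?_⟩
    obtain ⟨j, hj⟩ := exists_quo_of_sub (E := E) (show A.1 ≤ c.1 from hac.le) (show c.1 ≤ B.1 from hcb)
    rw [hpVal_q hE k hL hd hac.le, hpVal_q hE k hL hd h]
    exact ss_sub_le hL hs j (isCoh_quoCS hac.le) fun hz => hac.ne ((isZero_quoCS_iff hE hac.le).1 hz)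
  · rintro ⟨hlt, hp, hss⟩
    refine ⟨isCoh_quoCS h, fun hz => hlt.ne ((isZero_quoCS_iff hE h).1 hz),
      (isPure_quoCS_iff hE k hL hd h).2 hp, fun F ι hι hF hF0 hi pF pE hpF hpE => ?_⟩
    obtain ⟨C, hAC, hCB, hq, -⟩ := exists_sub_of_quo hE k hL hd h ι hF
    have hne : A ≠ C := fun e => hF0 ((isZero_iff_hp_eq_zero k hL hF).2 (by rw [hq, e, Val.q_self]))
    rw [eq_hp k hpF, eq_hp k hpE, hq, ← hpVal_q hE k hL hd h]
    exact hss C (hAC.lt_of_ne hne) hCB

include hL hd in
/-- Stability of a subquotient. -/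
theorem isStable_quoCS_iff {A B : CS hE} (h : A ≤ B) :
    ShStab.IsStable k X L (quoCS h) d ↔ (hpVal hE k hL hd).St A B := by
  constructor
  · intro hs
    have hne : A ≠ B := fun e => hs.2.1 ((isZero_quoCS_iff hE h).2 e)
    refine ⟨h.lt_of_ne hne, (isPure_quoCS_iff hE k hL hd h).1 hs.2.2.1, fun c hac hcb => ?_⟩
    obtain ⟨j, hj⟩ := exists_quo_of_sub (E := E) (show A.1 ≤ c.1 from hac.le) (show c.1 ≤ B.1 from hcb.le)
    rw [hpVal_q hE k hL hd hac.le, hpVal_q hE k hL hd h]
    refine st_hp hs hL j (isCoh_quoCS hac.le) (fun hz => hac.ne ((isZero_quoCS_iff hE hac.le).1 hz))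
      fun hi => ((hpVal hE k hL hd).evPos c B hcb).ne_zero ?_
    have e := hp_congr k hL.1 (asIso j) (isCoh_quoCS h)
    rw [← hpVal_q hE k hL hd hac.le, ← hpVal_q hE k hL hd h] at e
    simp only [Val.q] at e
    linear_combination (norm := abel) -e
  · rintro ⟨hlt, hp, hst⟩
    refine ⟨isCoh_quoCS h, fun hz => hlt.ne ((isZero_quoCS_iff hE h).1 hz),
      (isPure_quoCS_iff hE k hL hd h).2 hp, fun F ι hι hF hF0 hi pF pE hpF hpE => ?_⟩
    obtain ⟨C, hAC, hCB, hq, hiso⟩ := exists_sub_of_quo hE k hL hd h ι hF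
    have hne : A ≠ C := fun e => hF0 ((isZero_iff_hp_eq_zero k hL hF).2 (by rw [hq, e, Val.q_self]))
    rw [eq_hp k hpF, eq_hp k hpE, hq, ← hpVal_q hE k hL hd h]
    exact hst C (hAC.lt_of_ne hne) (hCB.lt_of_ne fun e => hi (hiso e))

end Groth.Agent.HP96
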