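import Groth.Agent.HP96.Basic
import Groth.Agent.Curves2.Ample.ClosedPush
import Groth.Agent.Curves2.Ample.Semiample
import Groth.Agent.Amp73.QA
import Groth.Agent.Ample57.QAAvoid
import Groth.Agent.Props58.DimZero
import Groth.Agent.Serre71.Finite
import Groth.Agent.Curves2.CurveComponents

/-!
# Positivity of the multiplicity

For an ample polarisation, a nonzero coherent module whose support has dimension `d` has
`0 < alpha d` of its Hilbert polynomial.
-/

set_option autoImplicit false
set_option backward.isDefEq.respectTransparency.types false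
universe u

open CategoryTheory CategoryTheory.Limits AlgebraicGeometry TopologicalSpace Opposite Polynomial

noncomputable section

namespace Groth.Agent.HP96

open Groth.Agent.Crv77 Groth.Agent.Var76.LineBundle Groth.Agent.Var76.ZeroScheme

theorem coeff_taylor_sub {d : ℕ} {P : ℚ[X]} (hdeg : P.natDegree ≤ d + 1) (a : ℚ) :
    (taylor a P - P).coeff d = a * ((d + 1 : ℕ) : ℚ) * P.coeff (d + 1) := by
  rw [coeff_sub, taylor_coeff, eval_eq_sum_range' (Nat.lt_succ_of_le ((natDegree_hasseDeriv_le P d).trans
        (Nat.sub_le_iff_le_add.2 (by omega : P.natDegree ≤ 1 + d))))]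
  simp only [hasseDeriv_coeff, Finset.sum_range_succ, Finset.sum_range_zero]
  simp [Nat.choose_succ_self_right, add_comm]
  ring

section Genlocus

variable {X : Scheme.{u}}

/-- Where the cokernel of a section of an invertible module vanishes, the section generates. -/
theorem mem_genLocus_of_subsingleton {M : X.Modules} (hM : PicF.IsInvertible M)
    (s : Coh.structureModule X ⟶ M) {x : X} (h : x ∉ CohB1.support (cokernel s)) :
    x ∈ CohB1.genLocus M s := by
  have hsub := QC70.notMem_support_iff.1 h
  obtain ⟨U, hxU, -, e, he⟩ := Mero90.exists_affine_frame hM x ⊤ trivial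
  let T : ShortComplex X.Modules :=
    ShortComplex.mk (kernel.ι (cokernel.π s)) (cokernel.π s) (kernel.condition _)
  obtain ⟨d, hd⟩ := QC70.stalkMapM_exact T (ShortComplex.exact_of_f_is_kernel _ (kernelIsKernel _)) x
    (QC70.germM M U.1 x hxU e) (hsub.elim _ _)
  have : Epi (Abelian.factorThruImage s) := inferInstance
  obtain ⟨a, rfl⟩ := QC70.surjective_stalkMapM_of_epi (Abelian.factorThruImage s) x d
  obtain ⟨W, hxW, b, rfl⟩ := QC70.germM_exist a
  change QC70.stalkMapM (kernel.ι (cokernel.π s)) x
    (QC70.stalkMapM (Abelian.factorThruImage s) x (QC70.germM _ W x hxW b)) = _ at hd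
  rw [QC70.stalkMapM_germ, QC70.stalkMapM_germ, ← ConcreteCategory.comp_apply,
    ← Scheme.Modules.Hom.comp_app,
    show Abelian.factorThruImage s ≫ kernel.ι (cokernel.π s) = s from Abelian.image.fac s] at hd
  obtain ⟨V, hxV, i₁, i₂, hV⟩ := TopCat.Presheaf.germ_eq M.presheaf x hxW hxU _ e hd
  have h1 : res M i₁.le (s.app W b) = res M i₂.le e := hV
  rw [← Mero90.app_res, Amp73.app_eq_smul_val] at h1
  obtain ⟨c, hc⟩ := Amp73.exists_coord s (he.res (i₂.le : V ≤ U.1))
  rw [← hc, smul_smul] at h1
  have h2 : (show Γ(X, V) from res (Coh.structureModule X) i₁.le b) * c = 1 :=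
    ((he.res i₂.le) V le_rfl).1 (by
      dsimp only
      rw [Amp73.res_self, one_smul]
      exact h1)

  have h3 : x ∈ X.basicOpen c := by
    rw [Scheme.basicOpen_of_isUnit X (IsUnit.of_mul_eq_one_right _ h2)]
    exact hxV
  exact ((Amp73.genLocus_inf_eq_basicOpen s (he.res i₂.le) hc).ge h3).1

end Genlocus

variable (k : Type u) [Field k]

/-- The positivity assertion in dimension `d`, over all proper `k`-schemes. -/
def PosIn (d : ℕ) : Prop :=
  ∀ (X : Scheme.{u}) [X.Over (Spec (CommRingCat.of k))] [IsProper (X ↘ Spec (CommRingCat.of k))]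
    (L : X.Modules), CohB1.IsAmple L → ∀ F : X.Modules, Coh.IsCoh F →
    topologicalKrullDim (CohB1.support F) ≤ (d : WithBot ℕ∞) →
    0 ≤ StabCat.alpha d (hp k L F) ∧
      (topologicalKrullDim (CohB1.support F) = (d : WithBot ℕ∞) → 0 < StabCat.alpha d (hp k L F))

variable {Z : Scheme.{u}} [Z.Over (Spec (CommRingCat.of k))] [IsProper (Z ↘ Spec (CommRingCat.of k))]

theorem euler_pos_of_dim_zero [IsIntegral Z] (h0 : topologicalKrullDim Z ≤ 0) :
    0 < Curv2.euler k Z (Coh.structureModule Z) := by
  have : QuasiSeparatedSpace Z := quasiSeparatedSpace_of_quasiSeparated (Z ↘ Spec (CommRingCat.of k))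
  have hsub : ∀ x : Z, x = genericPoint Z := fun x =>
    (Props58.eq_of_specializes h0 (genericPoint_specializes x)).symm
  have hfin : (Set.univ : Set Z).Finite :=
    (Set.finite_singleton (genericPoint Z)).subset fun x _ => hsub x
  have hcl : ∀ x ∈ (Set.univ : Set Z), IsClosed ({x} : Set Z) := fun x _ => by
    have : ({x} : Set Z) = Set.univ := Set.eq_univ_of_forall fun y => (hsub y).trans (hsub x).symm
    rw [this]; exact isClosed_univ
  have hs : Crv77.SuppIn (Coh.structureModule Z) Set.univ := fun x hx => absurd trivial hx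
  rw [Curv2.euler, finsum_eq_single _ 0 fun i hi => ?_]
  · rw [pow_zero, one_mul]
    have := Serre71.finite_hh_of_isProper k (Coh.structureModule Z) Crv77.isCoh_structureModule 0
    have : Nontrivial Γ(Coh.structureModule Z, ⊤) := by
      have : Nonempty (⊤ : Z.Opens) := ⟨⟨genericPoint Z, trivial⟩⟩
      exact inferInstanceAs (Nontrivial Γ(Z, ⊤))
    have : Nontrivial (Coh.HH Z (Coh.structureModule Z) 0) :=
      (sec (Coh.structureModule Z)).toEquiv.nontrivial
    exact_mod_cast Module.finrank_pos (R := k) (M := Coh.HH Z (Coh.structureModule Z) 0)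
  · obtain ⟨n, rfl⟩ := Nat.exists_eq_succ_of_ne_zero hi
    have := hs.subsingleton_HH hfin hcl n
    rw [Module.finrank_zero_of_subsingleton]
    simp

/-- Positivity for the structure sheaf of an integral scheme. -/
theorem alpha_structure_pos [IsIntegral Z] {L : Z.Modules} (hL : CohB1.IsAmple L) {d : ℕ}
    (hdim : topologicalKrullDim Z = (d : WithBot ℕ∞)) (IH : ∀ e, d = e + 1 → PosIn.{u} k e) :
    0 < StabCat.alpha d (hp k L (Coh.structureModule Z)) := by
  have hO : Coh.IsCoh (Coh.structureModule Z) := Crv77.isCoh_structureModule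
  cases d with
  | zero =>
    rw [alpha_zero_eq, coeff_zero_eq_eval_zero, ← Nat.cast_zero, ← isHilbPoly_hp k hL.1 hO 0]
    rw [show Curv2.euler k Z (ShStab.twist Z L (Coh.structureModule Z) 0) =
      Curv2.euler k Z (Coh.structureModule Z) from
        Crv77.euler_congr (EGA73.tensUnitLeft (Coh.structureModule Z))]
    exact_mod_cast euler_pos_of_dim_zero k hdim.le
  | succ e =>
    have := Crv77.isNoetherian_of_proper k Z
    have hIH := IH e rfl
    obtain ⟨l, hl⟩ : ∃ l : LTSeries (IrreducibleCloseds Z), l.length = e + 1 := by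
      refine Order.le_krullDim_iff.1 ?_
      exact hdim.ge
    let Z' : IrreducibleCloseds Z := l.eraseLast.last
    have hZ'ne : (Z' : Set Z) ≠ Set.univ := fun h => by
      have h1 : l.eraseLast.last < l.last := l.eraseLast_last_rel_last (by omega)
      exact h1.2 fun x _ => h.ge (Set.mem_univ x)
    have hη : genericPoint Z ∈ (⟨(Z' : Set Z)ᶜ, Z'.isClosed.isOpen_compl⟩ : Z.Opens) := fun h => by
      refine hZ'ne (Set.eq_univ_of_univ_subset ?_)
      rw [← (genericPoint_spec Z).def]
      exact Z'.isClosed.closure_subset_iff.2 (Set.singleton_subset_iff.2 h)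
    obtain ⟨_, ⟨n, s, rfl⟩, hηG, hle⟩ :=
      Opens.isBasis_iff_nbhd.1 ((Ample57.isAmple_iff_isBasis hL.1).1 hL) hη
    let M := CohB1.tensorPow L (n + 1)
    have hM : PicF.IsInvertible M := EGA73.isInvertible_tensorPow hL.1 _
    have hMc : Coh.IsCoh M := Crv77.isCoh_of_isInvertible hM
    have hmono : Mono s := Curves2.Ample.mono_of_dense hM s fun η hη' =>
      hη' _ (genericPoint_specializes η) ▸ hηG
    let T : ShortComplex Z.Modules := ShortComplex.mk s (cokernel.π s) (cokernel.condition s)
    have hT : T.ShortExact :=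
      { exact := ShortComplex.exact_of_g_is_cokernel _ (cokernelIsCokernel s)
        mono_f := hmono
        epi_g := inferInstanceAs (Epi (cokernel.π s)) }
    have hC : Coh.IsCoh (cokernel s) := Crv77.isCoh_cokernel s hO hMc
    have := hC.2
    have hZC : (Z' : Set Z) ⊆ CohB1.support (cokernel s) := fun x hx => by
      by_contra h
      exact hle (mem_genLocus_of_subsingleton hM s h) hx
    have hηC : genericPoint Z ∉ CohB1.support (cokernel s) := QC70.notMem_support_iff.2
      (QC70.subsingleton_stalk_cokernel s _ (by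
        intro y
        obtain ⟨U, hηU, hU⟩ := Amp73.mem_genLocus_iff.1 hηG
        obtain ⟨W, hηW, t, rfl⟩ := QC70.germM_exist y
        obtain ⟨a, ha⟩ := (hU (W ⊓ U) inf_le_right).2 (res M inf_le_left t)
        refine ⟨QC70.germM (Coh.structureModule Z) (W ⊓ U) _ ⟨hηW, hηU⟩
          (a : Γ(Coh.structureModule Z, W ⊓ U)), ?_⟩
        rw [QC70.stalkMapM_germ, Amp73.app_eq_smul_val]
        dsimp only at ha
        rw [res_val] at ha
        rw [ha]
        exact QC70.germM_res _ _ t))
    have hdimC : topologicalKrullDim (CohB1.support (cokernel s)) = (e : WithBot ℕ∞) := by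
      refine le_antisymm (Snapper75.le_of_lt_succ (d := e) ?_) ?_
      · have := Snapper75.dim_lt_of_notMem (y := genericPoint Z) (QC70.isClosed_support (cokernel s))
          (fun x _ => (genericPoint_spec Z).specializes trivial |>.mem_closure) hηC (d := e + 1) (by
            refine lt_of_le_of_lt ((topologicalKrullDim_subspace_le Z _).trans hdim.le) ?_
            exact_mod_cast Nat.lt_succ_self _)
        exact this
      · have := TopDim50.length_le_dim_of_closed (QC70.isClosed_support (cokernel s)) l.eraseLast hZC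
        rwa [RelSeries.eraseLast_length, hl, Nat.add_sub_cancel] at this
    have hpos : 0 < StabCat.alpha e (hp k L (cokernel s)) := (hIH Z L hL _ hC hdimC.le).2 hdimC
    let P := hp k L (Coh.structureModule Z)
    have hdeg : P.natDegree ≤ e + 1 :=
      natDegree_hp_le k hL.1 hO ((topologicalKrullDim_subspace_le Z _).trans hdim.le)
    have hPM : hp k L M = taylor ((n + 1 : ℕ) : ℚ) P := by
      refine (eq_hp k (fun m => ?_)).symm
      rw [taylor_eval, ← Nat.cast_add, ← isHilbPoly_hp k hL.1 hO (m + (n + 1))]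
      exact congrArg (fun z : ℤ => (z : ℚ)) (Crv77.euler_congr
        (Amp73.powAdd L (n + 1) m ≪≫ eqToIso (by rw [Nat.add_comm]) ≪≫ (EGA73.tensUnitLeft _).symm))
    have hadd := hp_add k hL.1 hT hO hMc hC
    have hc : (hp k L (cokernel s)).coeff e = ((n + 1 : ℕ) : ℚ) * ((e + 1 : ℕ) : ℚ) * P.coeff (e + 1) := by
      rw [← coeff_taylor_sub hdeg, ← hPM]
      exact (congrArg (coeff · e) (eq_sub_of_add_eq' hadd.symm))
    simp only [StabCat.alpha, hc] at hpos ⊢
    have hf : (0 : ℚ) < ((e + 1).factorial : ℚ) := by exact_mod_cast Nat.factorial_pos _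
    refine mul_pos hf ?_
    by_contra hP
    have h2 : ((n + 1 : ℕ) : ℚ) * ((e + 1 : ℕ) : ℚ) * P.coeff (e + 1) ≤ 0 :=
      mul_nonpos_of_nonneg_of_nonpos (by positivity) (not_lt.1 hP)
    nlinarith [mul_nonpos_of_nonneg_of_nonpos (Nat.cast_nonneg (α := ℚ) e.factorial) h2]

/-- The test module at a point. -/
theorem exists_gen (d : ℕ) (hZ : ∀ e < d, PosIn.{u} k e) {X : Scheme.{u}}
    [X.Over (Spec (CommRingCat.of k))] [IsProper (X ↘ Spec (CommRingCat.of k))]
    {L : X.Modules} (hL : CohB1.IsAmple L) (y : X)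
    (hdy : topologicalKrullDim (closure ({y} : Set X)) ≤ (d : WithBot ℕ∞)) :
    ∃ G : X.Modules, Coh.IsCoh G ∧ Nontrivial (G.presheaf.stalk y) ∧ CohB1.support G = closure {y} ∧
      (∀ r ∈ IsLocalRing.maximalIdeal (X.presheaf.stalk y), ∀ e : G.presheaf.stalk y, r • e = 0) ∧
      (0 ≤ StabCat.alpha d (hp k L G) ∧
        (topologicalKrullDim (CohB1.support G) = (d : WithBot ℕ∞) → 0 < StabCat.alpha d (hp k L G))) := by
  have := Crv77.isNoetherian_of_proper k X
  let Y : Closeds X := ⟨closure {y}, isClosed_closure⟩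
  let I := Scheme.IdealSheafData.vanishingIdeal Y
  have hI : (I.support : Set X) = closure {y} := Scheme.IdealSheafData.coe_support_vanishingIdeal Y
  let Zs := I.subscheme
  let f : Zs ⟶ X := I.subschemeι
  have hrange : Set.range f = closure {y} := (I.range_subschemeι).trans hI
  have : IsIntegral Zs := Curves2.isIntegral_vanishingIdeal Y isIrreducible_singleton.closure
  letI : Zs.Over (Spec (CommRingCat.of k)) := ⟨f ≫ (X ↘ Spec (CommRingCat.of k))⟩
  have : IsProper (Zs ↘ Spec (CommRingCat.of k)) :=
    inferInstanceAs (IsProper (f ≫ (X ↘ Spec (CommRingCat.of k))))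
  let G := (Scheme.Modules.pushforward f).obj (Coh.structureModule Zs)
  have hOZ : Coh.IsCoh (Coh.structureModule Zs) := Crv77.isCoh_structureModule
  haveI := hOZ.1
  haveI := hOZ.2
  have hG : Coh.IsCoh G := QC70.isCoh_pushforward f (Coh.structureModule Zs) hOZ
  haveI := hG.1
  haveI := hG.2
  have hyη : f (genericPoint Zs) = y := by
    refine IsGenericPoint.eq ?_ isGenericPoint_closure
    have h := (genericPoint_spec Zs).image f.continuous
    rwa [Set.image_univ, f.isClosedEmbedding.isClosed_range.closure_eq, hrange] at h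
  have hnt : Nontrivial (G.presheaf.stalk y) := by
    have : Nontrivial ((Coh.structureModule Zs).presheaf.stalk (genericPoint Zs)) :=
      QC70.nontrivial_stalk_unit _
    exact hyη ▸ QC70.nontrivial_stalk_pushforward f (Coh.structureModule Zs) (genericPoint Zs)
  have hGsupp : CohB1.support G = closure {y} := by
    refine ((QC70.support_pushforward_subset f (Coh.structureModule Zs)).trans hrange.le).antisymm
      ((QC70.isClosed_support G).closure_subset_iff.2 (Set.singleton_subset_iff.2 ?_))
    exact not_subsingleton_iff_nontrivial.2 hnt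
  have hPG : 0 ≤ StabCat.alpha d (hp k L G) ∧
      (topologicalKrullDim (CohB1.support G) = (d : WithBot ℕ∞) → 0 < StabCat.alpha d (hp k L G)) := by
    rw [hGsupp]
    rcases hdy.lt_or_eq with hlt | heq
    · rw [alpha_hp_eq_zero k hL.1 hG (hGsupp.symm ▸ hlt)]
      exact ⟨le_rfl, fun h => absurd h hlt.ne⟩
    · have hZdim : topologicalKrullDim Zs = (d : WithBot ℕ∞) := by
        rw [← heq, ← hrange]
        exact IsHomeomorph.topologicalKrullDim_eq _
          f.isClosedEmbedding.isEmbedding.toHomeomorph.isHomeomorph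
      have hLZ : CohB1.IsAmple ((Scheme.Modules.pullback f).obj L) :=
        have : CompactSpace Zs := QuasiCompact.compactSpace_of_compactSpace f
        Amp73.isAmple_pullback_of_isEmbedding f f.isClosedEmbedding.isEmbedding hL
      have hpos := alpha_structure_pos k hLZ hZdim fun e he => hZ e (by omega)
      have heq' : hp k L G = hp k ((Scheme.Modules.pullback f).obj L) (Coh.structureModule Zs) := by
        refine (eq_hp k (fun m => ?_)).symm
        rw [← isHilbPoly_hp k hLZ.1 hOZ m]
        have hLm : PicF.IsInvertible (CohB1.tensorPow L m) := EGA73.isInvertible_tensorPow hL.1 m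
        obtain ⟨e⟩ := Curves2.Ample.nonempty_push_unit_tensor f hLm
        rw [show ShStab.twist X L G m = CohB1.tensorMod G (CohB1.tensorPow L m) from rfl,
          Crv77.euler_congr e, Curves2.Ample.euler_push k f rfl _
            (Crv77.isCoh_of_isInvertible (Amp73.isInvertible_pullback f hLm))]
        exact congrArg (fun z : ℤ => (z : ℚ))
          (Crv77.euler_congr (Amp73.pullPowIso f hL.1 m ≪≫ (EGA73.tensUnitLeft _).symm))
      rw [heq']
      exact ⟨hpos.le, fun _ => hpos⟩
  exact ⟨G, hG, hnt, hGsupp, hyη ▸ QC70.stalk_pushforward_killed f (Coh.structureModule Zs), hPG⟩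

theorem posIn : ∀ d : ℕ, PosIn.{u} k d := by
  intro d
  induction d using Nat.strong_induction_on with
  | _ d ih =>
  intro X _ _ L hL F hF hd
  have := Crv77.isNoetherian_of_proper k X
  haveI := hF.1
  haveI := hF.2
  refine QC70.devissage (fun M => Coh.IsCoh M → topologicalKrullDim (CohB1.support M) ≤ (d : WithBot ℕ∞) →
      0 ≤ StabCat.alpha d (hp k L M) ∧
        (topologicalKrullDim (CohB1.support M) = (d : WithBot ℕ∞) → 0 < StabCat.alpha d (hp k L M)))
    ?_ ?_ ?_ ?_ (CohB1.support F) (QC70.isClosed_support F) (fun y hy IHy => ?_) F hF subset_rfl hF hd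
  · rintro M N ⟨e⟩ h hN hdN
    have hM := QC70.isCoh_of_iso e.symm hN
    rw [← hp_congr k hL.1 e hN, ← support_congr e]
    exact h hM (by rwa [support_congr e])
  · intro M hM _ _
    rw [hp_eq_zero_of_isZero k hL.1 hM, alpha_zero, support_eq_empty_of_isZero hM]
    refine ⟨le_rfl, fun h => ?_⟩
    have : IsEmpty (IrreducibleCloseds (∅ : Set X)) := ⟨fun C => C.isIrreducible.nonempty.choose.2⟩
    rw [topologicalKrullDim, Order.krullDim_eq_bot] at h
    simp at h
  · intro S hS h₁ h₂ h₃ p₁ p₃ _ hd₂
    have e := dim_support_X₂ hS h₁ h₃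
    rw [e, max_le_iff] at hd₂
    obtain ⟨q₁, q₁'⟩ := p₁ h₁ hd₂.1
    obtain ⟨q₃, q₃'⟩ := p₃ h₃ hd₂.2
    rw [hp_add k hL.1 hS h₁ h₂ h₃, alpha_add, e]
    refine ⟨add_nonneg q₁ q₃, fun h => ?_⟩
    rcases max_choice (topologicalKrullDim (CohB1.support S.X₁)) (topologicalKrullDim (CohB1.support S.X₃))
      with hm | hm
    · exact add_pos_of_pos_of_nonneg (q₁' (hm ▸ h)) q₃
    · exact add_pos_of_nonneg_of_pos q₁ (q₃' (hm ▸ h))
  · intro G r hG hr hP _ hdG
    have e := biproduct.isoCoproduct fun _ : Fin r => G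
    have hb : Coh.IsCoh (⨁ fun _ : Fin r => G) := QC70.isCoh_biproduct _ fun _ => hG
    have hc := QC70.isCoh_of_iso e hb
    have hsupp : CohB1.support (∐ fun _ : Fin r => G) = CohB1.support G := by
      rw [← support_congr e]
      refine ((QC70.support_biproduct_subset _).trans (Set.iUnion_subset fun _ => subset_rfl)).antisymm
        (QC70.mem_support_of_mono (biproduct.ι (fun _ : Fin r => G) ⟨0, hr⟩))
    obtain ⟨q, q'⟩ := hP hc (hsupp.symm ▸ hdG)
    rw [← hp_congr k hL.1 e hc, hp_biproduct k hL.1 hG, alpha_smul] at q q'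
    have hr' : (0 : ℚ) < (r : ℚ) := by exact_mod_cast hr
    exact ⟨(mul_nonneg_iff_of_pos_left hr').1 q,
      fun h => (mul_pos_iff_of_pos_left hr').1 (q' (hsupp.symm ▸ h))⟩
  · have hdy : topologicalKrullDim (closure ({y} : Set X)) ≤ (d : WithBot ℕ∞) :=
      (TopDim50.dim_mono ((QC70.isClosed_support F).closure_subset_iff.2
        (Set.singleton_subset_iff.2 hy))).trans hd
    obtain ⟨G, hG, hnt, hGsupp, hkill, hPG⟩ := exists_gen k d ih hL y hdy
    haveI := hG.1
    haveI := hG.2
    refine ⟨G, hG, hnt, hkill,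
      fun J hJ => ⟨_, 𝟙 _, inferInstance, QC70.isCoh_idealMul J hG, ?_, fun hc _ => ?_⟩⟩
    · rw [Category.id_comp]
      exact QC70.bijective_stalk_idealMulι J _ hJ
    · have hq := QC70.isCoh_quot J hG
      haveI := hq.2
      have hsub : CohB1.support (QC70.quotSC J G).X₃ ⊆ closure {y} :=
        (QC70.support_quot_subset_left J G).trans hGsupp.le
      have hyq : y ∉ CohB1.support (QC70.quotSC J G).X₃ := QC70.notMem_support_iff.2
        (QC70.subsingleton_stalk_cokernel _ y (QC70.bijective_stalk_idealMulι J G hJ).2)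
      have hlt : topologicalKrullDim (CohB1.support (QC70.quotSC J G).X₃) < (d : WithBot ℕ∞) :=
        Snapper75.dim_lt_of_notMem (QC70.isClosed_support _) hsub hyq
          (lt_of_le_of_lt hdy (by exact_mod_cast Nat.lt_succ_self d))
      have hadd : hp k L G = hp k L ((Dual3.idealMul J).obj G) + hp k L (QC70.quotSC J G).X₃ :=
        hp_add k hL.1 (S := QC70.quotSC J G) (QC70.quotSC_shortExact J G) hc hG hq
      have hα : StabCat.alpha d (hp k L ((Dual3.idealMul J).obj G)) = StabCat.alpha d (hp k L G) := by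
        rw [hadd, alpha_add, alpha_hp_eq_zero k hL.1 hq hlt, add_zero]
      rw [hα]
      refine ⟨hPG.1, fun h => hPG.2 (le_antisymm (hGsupp.symm ▸ hdy) (h.ge.trans ?_))⟩
      exact TopDim50.dim_mono (QC70.mem_support_of_mono (Dual3.idealMulι J G))

variable {X : Scheme.{u}} [X.Over (Spec (CommRingCat.of k))] [IsProper (X ↘ Spec (CommRingCat.of k))]
variable {L : X.Modules}

/-- The multiplicity is nonnegative. -/
theorem alpha_nonneg (hL : CohB1.IsAmple L) {F : X.Modules} (hF : Coh.IsCoh F) {d : ℕ}
    (hd : topologicalKrullDim (CohB1.support F) ≤ (d : WithBot ℕ∞)) :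
    0 ≤ StabCat.alpha d (hp k L F) :=
  (posIn k d X L hL F hF hd).1

/-- The multiplicity is positive exactly in the top dimension. -/
theorem alpha_pos_iff (hL : CohB1.IsAmple L) {F : X.Modules} (hF : Coh.IsCoh F) {d : ℕ}
    (hd : topologicalKrullDim (CohB1.support F) ≤ (d : WithBot ℕ∞)) :
    0 < StabCat.alpha d (hp k L F) ↔ topologicalKrullDim (CohB1.support F) = (d : WithBot ℕ∞) :=
  ⟨fun h => hd.eq_of_not_lt fun hlt => h.ne' (alpha_hp_eq_zero k hL.1 hF hlt),
    (posIn k d X L hL F hF hd).2⟩

/-- The Hilbert polynomial of a nonzero coherent module is eventually positive. -/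
theorem evPos_hp (hL : CohB1.IsAmple L) {F : X.Modules} (hF : Coh.IsCoh F) (h0 : ¬ IsZero F) :
    EvPos (hp k L F) := by
  obtain ⟨d, hd⟩ := exists_dim_eq k h0
  have hpos := (posIn k d X L hL F hF hd.le).2 hd
  have hc : 0 < (hp k L F).coeff d :=
    (mul_pos_iff_of_pos_left (by exact_mod_cast Nat.factorial_pos d)).1 hpos
  have hn : (hp k L F).natDegree = d :=
    le_antisymm (natDegree_hp_le k hL.1 hF hd.le) (le_natDegree_of_ne_zero hc.ne')
  exact evPos_iff.2 (by rwa [leadingCoeff, hn])

theorem isZero_iff_hp_eq_zero (hL : CohB1.IsAmple L) {F : X.Modules} (hF : Coh.IsCoh F) :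
    IsZero F ↔ hp k L F = 0 :=
  ⟨hp_eq_zero_of_isZero k hL.1, fun h => by_contra fun h0 => (evPos_hp k hL hF h0).ne_zero h⟩

end Groth.Agent.HP96
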