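import Groth.Agent.HP96.Positive
import Groth.Agent.S11129

/-!
# Coherent submodules: images, ascending chain condition, seesaw

Auxiliary facts on coherent submodules used for stability of sheaves.
-/

set_option autoImplicit false
set_option backward.isDefEq.respectTransparency.types false
universe u

open CategoryTheory CategoryTheory.Limits AlgebraicGeometry Polynomial

noncomputable section

namespace Groth.Agent.HP96

/-- Coherent subobjects. -/
abbrev CohSub {X : Scheme.{u}} (E : X.Modules) : Type (u + 1) :=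
  {A : Subobject E // Coh.IsCoh (Subobject.underlying.obj A)}

theorem mk_coh {X : Scheme.{u}} {E F : X.Modules} (ι : F ⟶ E) [Mono ι] (hF : Coh.IsCoh F) :
    Coh.IsCoh (Subobject.underlying.obj (Subobject.mk ι)) :=
  QC70.isCoh_of_iso (Subobject.underlyingIso ι).symm hF

/-- Ascending chain condition for coherent subobjects of a coherent module. -/
theorem wellFoundedGT_cohSub {X : Scheme.{u}} [AlgebraicGeometry.IsNoetherian X] {E : X.Modules}
    (hE : Coh.IsCoh E) : WellFoundedGT (CohSub E) := by
  let M : QCohCat.QCoh X := ⟨E, hE.1⟩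
  have : IsNoetherianObject M := (S11129.result X M).2 hE
  let arr : ∀ A : CohSub E, (⟨Subobject.underlying.obj A.1, A.2.1⟩ : QCohCat.QCoh X) ⟶ M :=
    fun A => ObjectProperty.homMk A.1.arrow
  have hm : ∀ A : CohSub E, Mono (arr A) := fun A =>
    (ObjectProperty.ι _).mono_of_mono_map (f := arr A) (inferInstanceAs (Mono A.1.arrow))
  let f : CohSub E → Subobject M := fun A => have := hm A; Subobject.mk (arr A)
  have hf : StrictMono f := fun A B hAB => by
    have := hm A; have := hm B
    refine lt_of_le_of_ne (Subobject.mk_le_mk_of_comm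
      (ObjectProperty.homMk (Subobject.ofLE A.1 B.1 hAB.le)) ?_) fun h => hAB.ne ?_
    · exact (ObjectProperty.ι _).map_injective (by simp [arr])
    · apply Subtype.ext
      let i := Subobject.isoOfMkEqMk (arr A) (arr B) h
      refine Subobject.eq_of_comm ((ObjectProperty.ι _).mapIso i) ?_
      have h1 : i.hom ≫ arr B = arr A := Subobject.ofMkLEMk_comp _
      exact congrArg (·.hom) h1
  exact hf.wellFoundedGT

variable (k : Type u) [Field k] {X : Scheme.{u}} [X.Over (Spec (CommRingCat.of k))]
  [IsProper (X ↘ Spec (CommRingCat.of k))] {L : X.Modules}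

include k in
theorem isCoh_ker {F G : X.Modules} (φ : F ⟶ G) (hF : Coh.IsCoh F) (hG : Coh.IsCoh G) :
    Coh.IsCoh (kernel φ) :=
  have := Crv77.isNoetherian_of_proper k X
  QC70.isCoh_kernel φ hF hG.1

omit [X.Over (Spec (CommRingCat.of k))] [IsProper (X ↘ Spec (CommRingCat.of k))] in
theorem isZero_of_isIso_kernel_ι {F G : X.Modules} {φ : F ⟶ G} (h : IsIso (kernel.ι φ)) : φ = 0 := by
  rw [← cancel_epi (kernel.ι φ), kernel.condition, Limits.comp_zero]

omit [X.Over (Spec (CommRingCat.of k))] [IsProper (X ↘ Spec (CommRingCat.of k))] in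
theorem isIso_of_isZero_cokernel {F G : X.Modules} (φ : F ⟶ G) [Mono φ] (h : IsZero (cokernel φ)) :
    IsIso φ :=
  have : Epi φ := Abelian.epi_of_cokernel_π_eq_zero φ (h.eq_zero_of_tgt _)
  isIso_of_mono_of_epi φ

omit [X.Over (Spec (CommRingCat.of k))] [IsProper (X ↘ Spec (CommRingCat.of k))] in
theorem not_isZero_cokernel {F G : X.Modules} {φ : F ⟶ G} [Mono φ] (h : ¬ IsIso φ) :
    ¬ IsZero (cokernel φ) := fun hz => h (isIso_of_isZero_cokernel φ hz)

omit [X.Over (Spec (CommRingCat.of k))] [IsProper (X ↘ Spec (CommRingCat.of k))] in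
theorem mono_of_isZero_kernel {F G : X.Modules} {φ : F ⟶ G} (h : IsZero (kernel φ)) : Mono φ :=
  Abelian.mono_of_kernel_ι_eq_zero φ (h.eq_zero_of_src _)

theorem hp_mono (hL : PicF.IsInvertible L) {F E : X.Modules} (ι : F ⟶ E) [Mono ι]
    (hF : Coh.IsCoh F) (hE : Coh.IsCoh E) : hp k L E = hp k L F + hp k L (cokernel ι) :=
  hp_add k hL (S := ShortComplex.mk ι (cokernel.π ι) (cokernel.condition ι))
    { exact := ShortComplex.exact_of_g_is_cokernel _ (cokernelIsCokernel ι)
      mono_f := ‹Mono ι›
      epi_g := inferInstanceAs (Epi (cokernel.π ι)) } hF hE (QC70.isCoh_cokernel ι hF.1 hE)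

theorem hp_epi (hL : PicF.IsInvertible L) {E G : X.Modules} (π : E ⟶ G) [Epi π]
    (hE : Coh.IsCoh E) (hG : Coh.IsCoh G) : hp k L E = hp k L (kernel π) + hp k L G :=
  hp_add k hL (S := ShortComplex.mk (kernel.ι π) π (kernel.condition π))
    { exact := ShortComplex.exact_of_f_is_kernel _ (kernelIsKernel π)
      mono_f := inferInstanceAs (Mono (kernel.ι π))
      epi_g := ‹Epi π› } (isCoh_ker k π hE hG) hE hG

include k in
/-- Factorisation of a morphism of coherent modules through its coherent image. -/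
theorem exists_image {F G : X.Modules} (φ : F ⟶ G) (hF : Coh.IsCoh F) (hG : Coh.IsCoh G) :
    ∃ (I : X.Modules) (q : F ⟶ I) (i : I ⟶ G), Epi q ∧ Mono i ∧ Coh.IsCoh I ∧ q ≫ i = φ :=
  ⟨Abelian.coimage φ, Abelian.coimage.π φ, Abelian.factorThruCoimage φ, inferInstance, inferInstance,
    QC70.isCoh_cokernel _ (isCoh_ker k φ hF hG).1 hF, Abelian.coimage.fac φ⟩

/-- The multiplicity of a Hilbert polynomial is an integer. -/
theorem exists_int_alpha_hp (hL : PicF.IsInvertible L) {F : X.Modules} (hF : Coh.IsCoh F) {d : ℕ}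
    (hd : topologicalKrullDim (CohB1.support F) ≤ (d : WithBot ℕ∞)) :
    ∃ z : ℤ, StabCat.alpha d (hp k L F) = z :=
  exists_int_alpha (natDegree_hp_le k hL hF hd) (hp_eval_int k hL hF)

omit [X.Over (Spec (CommRingCat.of k))] [IsProper (X ↘ Spec (CommRingCat.of k))] in
theorem dim_sub_le {F E : X.Modules} (ι : F ⟶ E) [Mono ι] :
    topologicalKrullDim (CohB1.support F) ≤ topologicalKrullDim (CohB1.support E) :=
  TopDim50.dim_mono (QC70.mem_support_of_mono ι)

omit [X.Over (Spec (CommRingCat.of k))] [IsProper (X ↘ Spec (CommRingCat.of k))] in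
theorem dim_quot_le {F E : X.Modules} (π : E ⟶ F) [Epi π] :
    topologicalKrullDim (CohB1.support F) ≤ topologicalKrullDim (CohB1.support E) :=
  TopDim50.dim_mono (QC70.mem_support_of_epi π)

end Groth.Agent.HP96
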